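import Groth.Agent.DTenLib.BaseHomCases
import Groth.Agent.DTenLib.EvalTenRight

/-!
# The evaluation map out of a pseudo-coherent object
-/

set_option autoImplicit false
set_option linter.style.haveILetI false
set_option linter.unusedSectionVars false
set_option backward.isDefEq.respectTransparency false

universe u

open CategoryTheory Limits MonoidalCategory Pretriangulated DTen
attribute [local instance] HasDerivedCategory.standard

noncomputable section

namespace Groth.Agent.TrivBCLib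

open Groth.Agent.DTenLib Groth.Agent.DRingLib

variable {A : Type u} [CommRing A] [HasLTen A] [HasLTen₃ A] [IsSymMonoidal A] [HasRHom A]

theorem RHomMap_comp' {L₁ L₂ L₃ : Dual.D A} (f : L₁ ⟶ L₂) (g : L₂ ⟶ L₃) (W : Dual.D A) :
    RHomMap g W ≫ RHomMap f W = RHomMap (f ≫ g) W := by
  rw [RHomMap, RHomMap, RHomMap, ← NatTrans.comp_app, ← Functor.map_comp]
  rfl

theorem exists_tensor_RHomMap_factor {T : Triangle (Dual.D A)} (hT : T ∈ distTriang (Dual.D A)) (P W : Dual.D A)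
    {X : Dual.D A} (f : X ⟶ (LTen₂ A).obj (P, (RHomR A T.obj₂).obj W))
    (hf : f ≫ tmap (𝟙 P) (RHomMap T.mor₁ W) = 0) :
    ∃ e, e ≫ tmap (𝟙 P) (RHomMap T.mor₂ W) = f := by
  obtain ⟨C, g, d, hC⟩ := distinguished_cocone_triangle₁ (RHomMap T.mor₁ W)
  obtain ⟨ψ, hψ⟩ := homExact_tensorLeft P X _ hC f hf
  obtain ⟨v, hv⟩ := exists_RHomMap_factor hT g (comp_distTriang_mor_zero₁₂ _ hC)
  refine ⟨ψ ≫ tmap (𝟙 P) v, ?_⟩
  rw [Category.assoc, tmap_comp, Category.id_comp, hv]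
  exact hψ

/-- The evaluation map is invertible for a pseudo-coherent source and bounded below values. -/
theorem isIso_evalTen_pc {P W M : Dual.D A} {a b n : ℤ} (hP : DRing.HasTorAmplitudeIn A a b P)
    (hM : DRing.IsPseudoCoherent' A M) (hW : DerivedCategory.IsGE W n) : IsIso (evalTen P W M) := by
  haveI := additive_tensorLeft (A := A) P
  refine isIso_of_bijective_unit _ fun j k => ?_
  suffices hb : ∀ i : ℤ, Function.Bijective fun f : (unit A)⟦i⟧ ⟶ _ => f ≫ evalTen P W M by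
    let G := Functor.FullyFaithful.ofFullyFaithful (CategoryTheory.shiftFunctor (Dual.D A) k)
    let i : ((unit A)⟦j - k⟧)⟦k⟧ ≅ (unit A)⟦j⟧ :=
      ((shiftFunctorAdd' (Dual.D A) (j - k) k j (by omega)).app _).symm
    let e : ∀ Z : Dual.D A, ((unit A)⟦j - k⟧ ⟶ Z) ≃ ((unit A)⟦j⟧ ⟶ Z⟦k⟧) := fun Z =>
      G.homEquiv.trans (Iso.homCongr i (Iso.refl _))
    suffices h' : (fun g : (unit A)⟦j⟧ ⟶ _ => g ≫ (evalTen P W M)⟦k⟧') ∘ ⇑(e _) =
        ⇑(e _) ∘ fun g => g ≫ evalTen P W M by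
      exact (Function.Bijective.of_comp_iff _ (e _).bijective).1 (h' ▸ (e _).bijective.comp (hb (j - k)))
    funext g
    simp [e, G, Functor.FullyFaithful.homEquiv]
  intro i
  obtain ⟨m, hm⟩ : ∃ m, m = a + n + i - 1 := ⟨_, rfl⟩
  obtain ⟨m', hm'⟩ : ∃ m', m' = min m (n + i - 1) := ⟨_, rfl⟩
  obtain ⟨E, α, ⟨⟨p, q, hE⟩, hEf⟩, ⟨D, g, d, hT, hD⟩⟩ := (isPseudoCoherent'_iff M).1 hM m
  have hPe : DRing.IsPerfect A (DRing.toD E) :=
    ⟨E, p, q, hE, fun r => fFree_imp_fProj (hEf r), ⟨Iso.refl _⟩⟩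
  have hD' : DerivedCategory.IsLE D (m - 1) := isLE_of_aboveZero hD
  haveI := hD'
  have hD1 : DerivedCategory.IsLE (D⟦(-1 : ℤ)⟧) m :=
    DerivedCategory.TStructure.t.isLE_shift D (m - 1) (-1) m (by omega)
  let T := Triangle.mk α g d
  let W' := (LTen₂ A).obj (P, W)
  have hW' : DerivedCategory.IsGE W' (a + n) := isGE_LTen hP hW
  have vL : ∀ (C : Dual.D A) (c : ℤ), DerivedCategory.IsLE C c → -i < a + n - c →
      Subsingleton ((unit A)⟦i⟧ ⟶ (LTen₂ A).obj (P, (RHomR A C).obj W)) := fun C c hC hc =>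
    subsingleton_unit_shift_hom_of_isGE (isGE_LTen hP (isGE_RHom hC hW)) i (by omega)
  have vR : ∀ (C : Dual.D A) (c : ℤ), DerivedCategory.IsLE C c → -i < a + n - c →
      Subsingleton ((unit A)⟦i⟧ ⟶ (RHomR A C).obj W') := fun C c hC hc =>
    subsingleton_unit_shift_hom_of_isGE (isGE_RHom hC hW') i (by omega)
  haveI : Subsingleton ((unit A)⟦i⟧ ⟶ (LTen₂ A).obj (P, (RHomR A (Triangle.mk α g d).obj₃).obj W)) :=
    vL D (m - 1) hD' (by omega)
  haveI : Subsingleton ((unit A)⟦i⟧ ⟶ (RHomR A (Triangle.mk α g d).obj₃).obj W') := vR D (m - 1) hD' (by omega)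
  haveI : Subsingleton ((unit A)⟦i⟧ ⟶ (LTen₂ A).obj (P, (RHomR A T.invRotate.obj₁).obj W)) :=
    vL _ m hD1 (by omega)
  haveI : Subsingleton ((unit A)⟦i⟧ ⟶ (RHomR A T.invRotate.obj₁).obj W') := vR _ m hD1 (by omega)
  have z₀ : T.invRotate.mor₁ ≫ α = 0 := comp_distTriang_mor_zero₁₂ _ (inv_rot_of_distTriang T hT)
  have bL : Function.Bijective fun f : (unit A)⟦i⟧ ⟶ (LTen₂ A).obj (P, (RHomR A M).obj W) =>
      f ≫ tmap (𝟙 P) (RHomMap α W) := by
    constructor
    · intro f f' hf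
      obtain ⟨e, he⟩ := exists_tensor_RHomMap_factor hT P W (f - f')
        (by rw [Preadditive.sub_comp]; exact sub_eq_zero.2 hf)
      rw [Subsingleton.elim e 0, zero_comp] at he
      exact sub_eq_zero.1 he.symm
    · intro f
      obtain ⟨e, he⟩ := exists_tensor_RHomMap_factor (inv_rot_of_distTriang T hT) P W f
        (Subsingleton.elim _ _)
      exact ⟨e, he⟩
  have bR : Function.Bijective fun f : (unit A)⟦i⟧ ⟶ (RHomR A M).obj W' => f ≫ RHomMap α W' := by
    constructor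
    · intro f f' hf
      obtain ⟨e, he⟩ := exists_RHomMap_factor hT (f - f')
        (by rw [Preadditive.sub_comp]; exact sub_eq_zero.2 hf)
      rw [Subsingleton.elim e 0, zero_comp] at he
      exact sub_eq_zero.1 he.symm
    · intro f
      obtain ⟨e, he⟩ := exists_RHomMap_factor (inv_rot_of_distTriang T hT) f (Subsingleton.elim _ _)
      exact ⟨e, he⟩
  haveI := isIso_evalTen_right W (DRing.toD E) hPe P
  have bE : Function.Bijective fun f : (unit A)⟦i⟧ ⟶ (LTen₂ A).obj (P, (RHomR A (DRing.toD E)).obj W) =>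
      f ≫ evalTen P W (DRing.toD E) :=
    ⟨fun f f' h => (cancel_mono (evalTen P W (DRing.toD E))).1 h,
      fun f => ⟨f ≫ inv (evalTen P W (DRing.toD E)), by simp⟩⟩
  refine (Function.Bijective.of_comp_iff' bR _).1 ?_
  have hfun : ((fun f : (unit A)⟦i⟧ ⟶ (RHomR A M).obj W' => f ≫ RHomMap α W') ∘
      fun f : (unit A)⟦i⟧ ⟶ (LTen₂ A).obj (P, (RHomR A M).obj W) => f ≫ evalTen P W M) =
      (fun f : (unit A)⟦i⟧ ⟶ (LTen₂ A).obj (P, (RHomR A (DRing.toD E)).obj W) => f ≫ evalTen P W (DRing.toD E)) ∘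
      fun f : (unit A)⟦i⟧ ⟶ (LTen₂ A).obj (P, (RHomR A M).obj W) => f ≫ tmap (𝟙 P) (RHomMap α W) := by
    funext f
    show (f ≫ evalTen P W M) ≫ RHomMap α W' = (f ≫ tmap (𝟙 P) (RHomMap α W)) ≫ evalTen P W (DRing.toD E)
    rw [Category.assoc, Category.assoc, evalTen_RHomMap]
  rw [hfun]
  exact bE.comp bL

end Groth.Agent.TrivBCLib
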