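import Groth.Agent.TrivBCLib.Eval
import Groth.Agent.TrivBCLib.EvalPC

/-!
# Trivial duality and base change
-/

set_option autoImplicit false
set_option linter.style.haveILetI false
set_option linter.unusedSectionVars false
set_option backward.isDefEq.respectTransparency false

universe u

open CategoryTheory Limits MonoidalCategory DTen
attribute [local instance] HasDerivedCategory.standard

noncomputable section

namespace Groth.Agent.TrivBCLib

open Groth.Agent.DTenLib

variable {R A R' A' : Type u} [CommRing R] [CommRing A] [CommRing R'] [CommRing A']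
    [Algebra R A] [Algebra R R'] [Algebra A A'] [Algebra R' A'] [Algebra R A'] [IsScalarTower R A A']
    [IsScalarTower R R' A'] [Algebra.IsPushout R A R' A']
    (htor : ∀ p : ℕ, 1 ≤ p → Subsingleton (DRing.Tor R p A R'))
    [DRing.HasLBaseChange (algebraMap R R')] [DRing.HasLBaseChange (algebraMap A A')]
    (adjρ : DRing.LBaseChange (algebraMap R R') ⊣ DRing.restrictD (algebraMap R R'))
    (adjα : DRing.LBaseChange (algebraMap A A') ⊣ DRing.restrictD (algebraMap A A'))
    (h : (algebraMap A A').comp (algebraMap R A) = (algebraMap R' A').comp (algebraMap R R'))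
    {Rφ : Dual.D R ⥤ Dual.D A} (adj : DRing.restrictD (algebraMap R A) ⊣ Rφ)
    {Rφ' : Dual.D R' ⥤ Dual.D A'} (adj' : DRing.restrictD (algebraMap R' A') ⊣ Rφ')
    (K : Dual.D R) (hc : IsIso (TrivBC.cmp adjρ adjα h (Rφ.obj K)))

include htor in
theorem isIso_bcMap_iff_evalTen [HasLTen R] [HasLTen₃ R] [IsSymMonoidal R] [HasRHom R] :
    IsIso (TrivBC.bcMap adjρ adjα h adj adj' K hc) ↔
      IsIso (evalTen ((DRing.restrictD (algebraMap R R')).obj (unit R')) K
        ((DRing.restrictD (algebraMap R A)).obj (unit A))) := by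
  haveI := DRingLib.hasLTen A
  haveI := DRingLib.hasLTen R'
  haveI := hasLTen₃_binder A
  haveI := hasLTen₃_binder R'
  haveI := isSymMonoidal_binder A
  haveI := isSymMonoidal_binder R'
  haveI := hasLBase (algebraMap R A)
  haveI := hasLBase (algebraMap R R')
  haveI := hasResTen (algebraMap R A)
  haveI := hasResTen (algebraMap R R')
  haveI := resLegIso (algebraMap R A)
  haveI := resLegIso (algebraMap R R')
  exact isIso_bcMap_iff h adjρ adjα adj adj' K hc
    fun X => isIso_cmp_pushout R A R' A' htor adjρ adjα h X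

include htor in
theorem isIso_bcMap_perfect (hperf : DRing.IsPerfectModule R A) :
    IsIso (TrivBC.bcMap adjρ adjα h adj adj' K hc) := by
  haveI := DRingLib.hasLTen R
  haveI := hasLTen₃_binder R
  haveI := isSymMonoidal_binder R
  haveI := hasRHom (A := R)
  exact (isIso_bcMap_iff_evalTen htor adjρ adjα h adj adj' K hc).2
    (isIso_evalTen_right K _ (isPerfect_resUnit R A hperf) _)

include htor in
theorem isIso_bcMap_pc (hpc : DRing.IsPseudoCoherentModule' R A) (hfd : DRing.HasFiniteTorDim R R') (n : ℤ)
    (hK : DerivedCategory.IsGE K n) : IsIso (TrivBC.bcMap adjρ adjα h adj adj' K hc) := by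
  haveI := DRingLib.hasLTen R
  haveI := hasLTen₃_binder R
  haveI := isSymMonoidal_binder R
  haveI := hasRHom (A := R)
  obtain ⟨a, b, hP⟩ := amp_resUnit R R' hfd
  obtain ⟨i⟩ := nonempty_resUnit_iso R A
  obtain ⟨E, c, hc', hE, ⟨e⟩⟩ := hpc
  exact (isIso_bcMap_iff_evalTen htor adjρ adjα h adj adj' K hc).2
    (isIso_evalTen_pc hP ⟨E, c, hc', hE, ⟨e ≪≫ i.symm⟩⟩ hK)

end Groth.Agent.TrivBCLib
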