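import Groth.Agent.TrivBCLib.Binders
import Groth.Agent.DTenLib.BaseHom
import Groth.Agent.DCohMore.BCTor
import Groth.Agent.PCHomLib.RelLocal
import Groth.Prelude.Def_TrivBC

/-!
# The comparison map of a tor independent cocartesian square
-/

set_option autoImplicit false
set_option linter.style.haveILetI false
set_option linter.unusedSectionVars false
set_option backward.isDefEq.respectTransparency false

universe u

open CategoryTheory Limits MonoidalCategory DTen
attribute [local instance] HasDerivedCategory.standard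

noncomputable section

namespace Groth.Agent.TrivBCLib

open Groth.Agent.DTenLib

section Kap

variable {R A : Type u} [CommRing R] [CommRing A] (f : R →+* A) [DRing.HasLBaseChange f]
  (adj : DRing.LBaseChange f ⊣ DRing.restrictD f)

/-- The map from a derived base change to the termwise one. -/
def kap (K : DRing.Cx R) :
    (DRing.LBaseChange f).obj (DerivedCategory.Q.obj K) ⟶ DerivedCategory.Q.obj ((extCx f).obj K) :=
  (adj.homEquiv _ _).symm (DerivedCategory.Q.map ((unitCx f).app K) ≫ (resFactors f).inv.app ((extCx f).obj K))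

theorem unit_kap (K : DRing.Cx R) :
    adj.unit.app (DerivedCategory.Q.obj K) ≫ (DRing.restrictD f).map (kap f adj K) =
      DerivedCategory.Q.map ((unitCx f).app K) ≫ (resFactors f).inv.app ((extCx f).obj K) := by
  exact (adj.homEquiv_unit _ _ _).symm.trans (Equiv.apply_symm_apply _ _)

theorem kap_eq [HasLBase f] (K : DRing.Cx R) :
    kap f adj K = (adj.leftAdjointUniq (baseAdj f)).hom.app _ ≫ (baseCmp f).app K := by
  apply (adj.homEquiv _ _).injective
  rw [adj.homEquiv_unit, adj.homEquiv_unit, unit_kap, Functor.map_comp,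
    Adjunction.unit_leftAdjointUniq_hom_app_assoc]
  exact (baseCmp_fac f K).symm

theorem isIso_kap_of_quasiIso (K : DRing.Cx R) (h : QuasiIso ((extCx f).map ((resAπ R).app K))) :
    IsIso (kap f adj K) := by
  haveI := hasLBase f
  haveI hα : IsIso ((baseα f).app K) :=
    (adaptedExt f).isIso_counit_app DerivedCategory.Q K (isIso_Q_of_quasiIso _ h)
  let e := (baseAdj f).leftAdjointUniq (baseFunAdj f)
  have hb : (baseCmp f).app K = e.hom.app _ ≫ (baseα f).app K := by
    apply ((baseAdj f).homEquiv _ _).injective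
    rw [Adjunction.homEquiv_unit, Adjunction.homEquiv_unit, Functor.map_comp,
      Adjunction.unit_leftAdjointUniq_hom_app_assoc]
    exact (baseCmp_fac f K).trans (baseFunAdj_fac f K).symm
  haveI : IsIso ((baseCmp f).app K) := by rw [hb]; exact IsIso.comp_isIso' inferInstance hα
  rw [kap_eq]
  exact IsIso.comp_isIso' inferInstance ‹_›

theorem isIso_kap (K : DRing.Cx R) (hK : DRing.IsKFlat R K) : IsIso (kap f adj K) :=
  isIso_kap_of_quasiIso f adj K (quasiIso_extCx_map f _ (quasiIso_resAπ K) (isKFlat_resA K) hK)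

end Kap

section Resolve

variable {R A R' : Type u} [CommRing R] [CommRing A] [CommRing R'] (φ : R →+* A) (ρ : R →+* R')

theorem quasiIso_whiskerLeft_of_isKFlat {L : DRing.Cx R} (hL : DRing.IsKFlat R L) {X Y : DRing.Cx R}
    (f : X ⟶ Y) [QuasiIso f] : QuasiIso (L ◁ f) := by
  haveI := DTenLib.quasiIso_whiskerRight f hL
  refine (quasiIso_iff_of_arrow_mk_iso (L ◁ f) (f ▷ L)
    (Arrow.isoMk (braidCx L X) (braidCx L Y) ?_)).2 inferInstance
  show (braidCx L X).hom ≫ (f ▷ L) = (L ◁ f) ≫ (braidCx L Y).hom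
  have h := braidCx_naturality (𝟙 L) f
  rw [MonoidalCategory.id_tensorHom, MonoidalCategory.tensorHom_id] at h
  exact h.symm

theorem quasiIso_projection {G : DRing.Cx A} (hG : DRing.IsKFlat A G) {L S : DRing.Cx R} (e : L ⟶ S)
    (he : QuasiIso ((extCx φ).map e)) : QuasiIso ((resCx φ).obj G ◁ e) := by
  haveI := he
  haveI := DRingLib.hasLTen R
  haveI := DRingLib.hasLTen A
  haveI := hasLBase φ
  haveI := hasResTen φ
  haveI := resLegIso φ
  haveI := isIso_projCx φ G L
  haveI := isIso_projCx φ G S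
  haveI : QuasiIso (G ◁ (extCx φ).map e) := quasiIso_whiskerLeft_of_isKFlat hG _
  haveI : QuasiIso ((resCx φ).map (G ◁ (extCx φ).map e)) :=
    HomologicalComplex.quasiIso_map_of_preservesHomology _ (ModuleCat.restrictScalars.{u} φ)
  refine (quasiIso_iff_of_arrow_mk_iso ((resCx φ).obj G ◁ e) ((resCx φ).map (G ◁ (extCx φ).map e))
    (Arrow.isoMk (asIso ((resCx φ).obj G ◁ (unitCx φ).app L ≫ resTenCx φ G ((extCx φ).obj L)))
      (asIso ((resCx φ).obj G ◁ (unitCx φ).app S ≫ resTenCx φ G ((extCx φ).obj S))) ?_)).2 inferInstance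
  show ((resCx φ).obj G ◁ (unitCx φ).app L ≫ resTenCx φ G ((extCx φ).obj L)) ≫
      (resCx φ).map (G ◁ (extCx φ).map e) =
    ((resCx φ).obj G ◁ e) ≫ (resCx φ).obj G ◁ (unitCx φ).app S ≫ resTenCx φ G ((extCx φ).obj S)
  have h := resTenCx_naturality φ (𝟙 G) ((extCx φ).map e)
  rw [CategoryTheory.Functor.map_id, MonoidalCategory.id_tensorHom, MonoidalCategory.id_tensorHom] at h
  rw [Category.assoc]
  erw [← h]
  rw [← Category.assoc, ← Category.assoc, ← MonoidalCategory.whiskerLeft_comp, ← MonoidalCategory.whiskerLeft_comp]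
  exact congrArg (fun w => (resCx φ).obj G ◁ w ≫ resTenCx φ G ((extCx φ).obj S)) ((unitCx φ).naturality e).symm

theorem quasiIso_extCx_resAπ
    (htor : ∀ n : ℕ, 0 < n →
      IsZero (((ModuleCat.extendScalars.{u, u, u} φ).leftDerived n).obj (baseMod ρ)))
    {G : DRing.Cx A} (hG : DRing.IsKFlat A G) :
    QuasiIso ((extCx ρ).map ((resAπ R).app ((resCx φ).obj G))) := by
  let M := baseMod ρ
  obtain ⟨P⟩ := (inferInstance : HasProjectiveResolution M).out
  let L : DRing.Cx R := P.cochainComplex
  let S : DRing.Cx R := (HomologicalComplex.single (ModuleCat.{u} R) (ComplexShape.up ℤ) 0).obj M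
  let e : L ⟶ S := P.π'
  haveI : QuasiIso e := inferInstanceAs (QuasiIso P.π')
  have hL : DRing.IsKFlat R L := DRingLib.isKFlat_of_vanishesAbove (b := 0)
    (fun n hn => CochainComplex.isZero_of_isStrictlyLE P.cochainComplex 0 n hn)
    (fun n => by
      haveI : Module.Projective R (P.cochainComplex.X n) :=
        (IsProjective.iff_projective _).2 (inferInstanceAs (Projective (P.cochainComplex.X n)))
      exact Module.Flat.of_projective)
  have hext : QuasiIso ((extCx φ).map e) :=
    DCohMore.BC.quasiIso_map_π' P (ModuleCat.extendScalars.{u, u, u} φ)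
      (haveI := (ModuleCat.extendRestrictScalarsAdj.{u, u, u} φ).leftAdjoint_preservesColimits
       inferInstance) htor
  let G' := (resCx φ).obj G
  let T := (resA R).obj G'
  let π : T ⟶ G' := (resAπ R).app G'
  haveI := quasiIso_projection φ hG e hext
  haveI : QuasiIso (G' ◁ e) := ‹_›
  haveI hG' : QuasiIso (e ▷ G') := by
    refine (quasiIso_iff_of_arrow_mk_iso (e ▷ G') (G' ◁ e)
      (Arrow.isoMk (braidCx L G') (braidCx S G') ?_)).2 inferInstance
    show (braidCx L G').hom ≫ (G' ◁ e) = (e ▷ G') ≫ (braidCx S G').hom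
    have h := braidCx_naturality e (𝟙 G')
    rw [MonoidalCategory.id_tensorHom, MonoidalCategory.tensorHom_id] at h
    exact h.symm
  haveI := DTenLib.quasiIso_whiskerRight e (isKFlat_resA G')
  haveI : QuasiIso (L ◁ π) := quasiIso_whiskerLeft_of_isKFlat hL _
  haveI : QuasiIso (S ◁ π) := by
    haveI : QuasiIso (e ▷ T ≫ S ◁ π) := by
      rw [← MonoidalCategory.whisker_exchange]
      infer_instance
    exact quasiIso_of_comp_left (e ▷ T) (S ◁ π)
  rw [← HomologicalComplex.quasiIso_map_iff_of_preservesHomology _ (ModuleCat.restrictScalars.{u} ρ)]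
  refine (quasiIso_iff_of_arrow_mk_iso _ _ (((Functor.mapArrowFunctor _ _).mapIso
    (NatIso.mapHomologicalComplex (extResIso ρ) (ComplexShape.up ℤ) ≪≫ singleTotRIso M ≪≫
      (KFlat.totRIso (curriedTensor (ModuleCat.{u} R)).flip S).symm)).app (Arrow.mk π))).2 ?_
  exact ‹QuasiIso (S ◁ π)›

end Resolve

section Square

variable {R A R' A' : Type u} [CommRing R] [CommRing A] [CommRing R'] [CommRing A']
  {φ : R →+* A} {ρ : R →+* R'} {α : A →+* A'} {φ' : R' →+* A'} (h : α.comp φ = φ'.comp ρ)

/-- The commutation of restrictions on a complex. -/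
def commCx (E : DRing.Cx A') : (resCx φ).obj ((resCx α).obj E) ⟶ (resCx ρ).obj ((resCx φ').obj E) :=
  (Functor.mapHomologicalComplexCompIso (TrivBC.resCommMod h) (ComplexShape.up ℤ) ≪≫
    (Functor.mapHomologicalComplexCompIso
      (Iso.refl (ModuleCat.restrictScalars.{u} φ' ⋙ ModuleCat.restrictScalars.{u} ρ))
      (ComplexShape.up ℤ)).symm).hom.app E

theorem commCx_f (E : DRing.Cx A') (i : ℤ) (x : E.X i) :
    ((commCx h E).f i).hom (show (ModuleCat.restrictScalars.{u} φ).obj
      ((ModuleCat.restrictScalars.{u} α).obj (E.X i)) from x) = x := rfl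

theorem resComm_Q (E : DRing.Cx A') :
    (TrivBC.resComm h).hom.app (DerivedCategory.Q.obj E) =
      (DRing.restrictD φ).map ((resFactors α).hom.app E) ≫ (resFactors φ).hom.app ((resCx α).obj E) ≫
        DerivedCategory.Q.map (commCx h E) ≫ (resFactors ρ).inv.app ((resCx φ').obj E) ≫
          (DRing.restrictD ρ).map ((resFactors φ').inv.app E) := by
  rw [TrivBC.resComm, Localization.liftNatIso_hom, Localization.liftNatTrans_app]
  show ((𝟙 _ ≫ (DRing.restrictD φ).map ((resFactors α).hom.app E) ≫ 𝟙 _ ≫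
      (resFactors φ).hom.app ((resCx α).obj E)) ≫
      (𝟙 _ ≫ DerivedCategory.Q.map (commCx h E) ≫ 𝟙 _) ≫
      (((resFactors ρ).inv.app ((resCx φ').obj E) ≫ 𝟙 _) ≫ (DRing.restrictD ρ).map ((resFactors φ').inv.app E)) ≫ 𝟙 _) = _
  simp only [Category.id_comp, Category.comp_id, Category.assoc]

theorem sqτ₀_tmul (M : ModuleCat.{u} A) (b : R') (m : M) :
    ((sqτ₀ φ ρ φ' α h).app M).hom (b ⊗ₜ[R] (show (ModuleCat.restrictScalars.{u} φ).obj M from m)) =
      φ' b • (show (ModuleCat.extendScalars.{u, u, u} α).obj M from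
        ((ModuleCat.extendRestrictScalarsAdj.{u, u, u} α).unit.app M).hom m) := rfl

theorem unitCx_sqτ (G : DRing.Cx A) :
    (unitCx ρ).app ((resCx φ).obj G) ≫ (resCx ρ).map ((sqτ φ ρ φ' α h).app G) =
      (resCx φ).map ((unitCx α).app G) ≫ commCx h ((extCx α).obj G) := by
  refine HomologicalComplex.hom_ext _ _ fun i => ?_
  refine ModuleCat.hom_ext (LinearMap.ext fun m => ?_)
  show ((sqτ₀ φ ρ φ' α h).app (G.X i)).hom ((1 : R') ⊗ₜ[R] (show (ModuleCat.restrictScalars.{u} φ).obj (G.X i) from m)) =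
    ((ModuleCat.extendRestrictScalarsAdj.{u, u, u} α).unit.app (G.X i)).hom m
  erw [sqτ₀_tmul h]
  rw [map_one, one_smul]

variable [DRing.HasLBaseChange ρ] [DRing.HasLBaseChange α]
  (adjρ : DRing.LBaseChange ρ ⊣ DRing.restrictD ρ) (adjα : DRing.LBaseChange α ⊣ DRing.restrictD α)

theorem unit_cmp (K : Dual.D A) :
    adjρ.unit.app ((DRing.restrictD φ).obj K) ≫ (DRing.restrictD ρ).map (TrivBC.cmp adjρ adjα h K) =
      (DRing.restrictD φ).map (adjα.unit.app K) ≫ (TrivBC.resComm h).hom.app _ := by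
  exact (adjρ.homEquiv_unit _ _ _).symm.trans (Equiv.apply_symm_apply _ _)

theorem cmp_natural {K K₁ : Dual.D A} (k : K ⟶ K₁) :
    (DRing.LBaseChange ρ).map ((DRing.restrictD φ).map k) ≫ TrivBC.cmp adjρ adjα h K₁ =
      TrivBC.cmp adjρ adjα h K ≫ (DRing.restrictD φ').map ((DRing.LBaseChange α).map k) := by
  apply (adjρ.homEquiv _ _).injective
  rw [adjρ.homEquiv_unit, adjρ.homEquiv_unit, Functor.map_comp, Functor.map_comp]
  erw [← Category.assoc, adjρ.unit_naturality, Category.assoc, unit_cmp, ← Category.assoc,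
    ← Functor.map_comp, ← adjα.unit_naturality, Functor.map_comp, Category.assoc,
    reassoc_of% (unit_cmp h adjρ adjα K)]
  exact congrArg (_ ≫ ·) ((TrivBC.resComm h).hom.naturality _)

theorem cmp_Q (G : DRing.Cx A) :
    TrivBC.cmp adjρ adjα h (DerivedCategory.Q.obj G) ≫
        (DRing.restrictD φ').map (kap α adjα G) ≫ (resFactors φ').hom.app ((extCx α).obj G) =
      (DRing.LBaseChange ρ).map ((resFactors φ).hom.app G) ≫ kap ρ adjρ ((resCx φ).obj G) ≫
        DerivedCategory.Q.map ((sqτ φ ρ φ' α h).app G) := by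
  apply (adjρ.homEquiv _ _).injective
  rw [adjρ.homEquiv_unit, adjρ.homEquiv_unit]
  simp only [Functor.map_comp]
  erw [reassoc_of% (unit_cmp h adjρ adjα (DerivedCategory.Q.obj G))]
  have hn : (TrivBC.resComm h).hom.app ((DRing.LBaseChange α).obj (DerivedCategory.Q.obj G)) ≫
      (DRing.restrictD ρ).map ((DRing.restrictD φ').map (kap α adjα G)) =
      (DRing.restrictD φ).map ((DRing.restrictD α).map (kap α adjα G)) ≫
        (TrivBC.resComm h).hom.app (DerivedCategory.Q.obj ((extCx α).obj G)) :=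
    ((TrivBC.resComm h).hom.naturality _).symm
  erw [reassoc_of% hn, ← Functor.map_comp_assoc, unit_kap, resComm_Q h]
  simp only [Category.assoc, ← Functor.map_comp, ← Functor.map_comp_assoc, Iso.inv_hom_id_app,
    Category.comp_id, CategoryTheory.Functor.map_id]
  erw [← Category.assoc, (resFactors φ).hom.naturality ((unitCx α).app G), Category.assoc]
  rw [Functor.map_comp, Functor.map_comp]
  erw [reassoc_of% (adjρ.unit_naturality ((resFactors φ).hom.app G)), reassoc_of% (unit_kap ρ adjρ ((resCx φ).obj G))]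
  refine congrArg ((resFactors φ).hom.app G ≫ ·) ?_
  erw [← (resFactors ρ).inv.naturality ((sqτ φ ρ φ' α h).app G)]
  dsimp
  rw [← Functor.map_comp_assoc, ← Functor.map_comp_assoc, unitCx_sqτ h]
  erw [CategoryTheory.Functor.map_id, Category.comp_id]

theorem isIso_cmp_Q (G : DRing.Cx A) (hG : DRing.IsKFlat A G)
    (hρ : QuasiIso ((extCx ρ).map ((resAπ R).app ((resCx φ).obj G))))
    (hτ : ∀ M, IsIso ((sqτ₀ φ ρ φ' α h).app M)) :
    IsIso (TrivBC.cmp adjρ adjα h (DerivedCategory.Q.obj G)) := by
  haveI := isIso_kap α adjα G hG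
  haveI := isIso_kap_of_quasiIso ρ adjρ _ hρ
  haveI : ∀ i, IsIso (((sqτ φ ρ φ' α h).app G).f i) := fun i => hτ (G.X i)
  haveI : IsIso ((sqτ φ ρ φ' α h).app G) := HomologicalComplex.Hom.isIso_of_components _
  haveI : IsIso (TrivBC.cmp adjρ adjα h (DerivedCategory.Q.obj G) ≫
      (DRing.restrictD φ').map (kap α adjα G) ≫ (resFactors φ').hom.app ((extCx α).obj G)) := by
    rw [cmp_Q]; infer_instance
  exact IsIso.of_isIso_comp_right _
    ((DRing.restrictD φ').map (kap α adjα G) ≫ (resFactors φ').hom.app ((extCx α).obj G))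

theorem isIso_cmp
    (htor : ∀ n : ℕ, 0 < n →
      IsZero (((ModuleCat.extendScalars.{u, u, u} φ).leftDerived n).obj (baseMod ρ)))
    (hτ : ∀ M, IsIso ((sqτ₀ φ ρ φ' α h).app M)) (K : Dual.D A) :
    IsIso (TrivBC.cmp adjρ adjα h K) := by
  haveI := DRingLib.hasLTen A
  haveI := isIso_cmp_Q h adjρ adjα (repr K) (isKFlat_repr K)
    (quasiIso_extCx_resAπ φ ρ htor (isKFlat_repr K)) hτ
  haveI : IsIso ((DRing.LBaseChange ρ).map ((DRing.restrictD φ).map (reprIso K).hom) ≫
      TrivBC.cmp adjρ adjα h K) := by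
    rw [cmp_natural]; infer_instance
  exact IsIso.of_isIso_comp_left ((DRing.LBaseChange ρ).map ((DRing.restrictD φ).map (reprIso K).hom)) _

end Square

section Pushout

variable (R A R' A' : Type u) [CommRing R] [CommRing A] [CommRing R'] [CommRing A']
    [Algebra R A] [Algebra R R'] [Algebra A A'] [Algebra R' A'] [Algebra R A'] [IsScalarTower R A A']
    [IsScalarTower R R' A'] [Algebra.IsPushout R A R' A']

theorem isIso_sqτ₀ (h : (algebraMap A A').comp (algebraMap R A) = (algebraMap R' A').comp (algebraMap R R'))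
    (M : ModuleCat.{u} A) :
    IsIso ((sqτ₀ (algebraMap R A) (algebraMap R R') (algebraMap R' A') (algebraMap A A') h).app M) := by
  haveI : Algebra.IsPushout R R' A A' := Algebra.IsPushout.symm inferInstance
  have e : (sqτ₀ (algebraMap R A) (algebraMap R R') (algebraMap R' A') (algebraMap A A') h).app M =
      (PCHomLib.pushoutExtendIso R R' A A').hom.app M := by
    refine ModuleCat.hom_ext (LinearMap.ext fun x => ?_)
    refine TensorProduct.induction_on x ?_ (fun b m => ?_) (fun a b ha hb => ?_)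
    · exact (map_zero _).trans (map_zero _).symm
    · letI : Module R M := Module.compHom _ (algebraMap R A)
      haveI : IsScalarTower R A M := .of_algebraMap_smul fun _ _ => rfl
      let c := Algebra.IsPushout.cancelBaseChange R R' A A' M
      have hM : c.symm (b ⊗ₜ m) = algebraMap R' A' b ⊗ₜ m :=
        Algebra.IsPushout.cancelBaseChangeAux_symm_tmul R R' A A' M b m
      let T := DRingLib.extendScalarsTensorEquiv A A' M
      show _ = T.symm (c.symm (b ⊗ₜ m))
      rw [hM]
      refine Eq.trans ?_ (rfl : (algebraMap R' A' b ⊗ₜ[A] m :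
        (ModuleCat.extendScalars.{u, u, u} (algebraMap A A')).obj M) = _)
      erw [sqτ₀_tmul h]
      refine (ModuleCat.ExtendScalars.smul_tmul (algebraMap A A') (algebraMap R' A' b) (1 : A') m).trans ?_
      rw [mul_one]
    · exact (map_add _ a b).trans ((congrArg₂ (· + ·) ha hb).trans (map_add _ a b).symm)
  rw [e]
  infer_instance

theorem isZero_extend_baseMod (htor : ∀ p : ℕ, 1 ≤ p → Subsingleton (DRing.Tor R p A R')) (n : ℕ) (hn : 0 < n) :
    IsZero (((ModuleCat.extendScalars.{u, u, u} (algebraMap R A)).leftDerived n).obj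
      (baseMod (algebraMap R R'))) := by
  refine DCohMore.BC.isZero_leftDerived_extend (algebraMap R A) _ (fun i hi => ?_) n hn
  let hA : baseMod (algebraMap R A) ≅ ModuleCat.of R A :=
    LinearEquiv.toModuleIso
      (show ↥(baseMod (algebraMap R A)) ≃ₗ[R] A from
        AddEquiv.toLinearEquiv (AddEquiv.refl A) fun r x => (Algebra.smul_def r (show A from x)).symm)
  let hB : baseMod (algebraMap R R') ≅ ModuleCat.of R R' :=
    LinearEquiv.toModuleIso
      (show ↥(baseMod (algebraMap R R')) ≃ₗ[R] R' from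
        AddEquiv.toLinearEquiv (AddEquiv.refl R') fun r x => (Algebra.smul_def r (show R' from x)).symm)
  let T := CategoryTheory.Tor (ModuleCat.{u} R) i
  haveI : Subsingleton ((T.obj (ModuleCat.of R A)).obj (ModuleCat.of R R')) := htor i hi
  exact ((T.mapIso hA).app _ ≪≫ (T.obj (ModuleCat.of R A)).mapIso hB).toLinearEquiv.toEquiv.subsingleton

theorem isIso_cmp_pushout
    (htor : ∀ p : ℕ, 1 ≤ p → Subsingleton (DRing.Tor R p A R'))
    [DRing.HasLBaseChange (algebraMap R R')] [DRing.HasLBaseChange (algebraMap A A')]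
    (adjρ : DRing.LBaseChange (algebraMap R R') ⊣ DRing.restrictD (algebraMap R R'))
    (adjα : DRing.LBaseChange (algebraMap A A') ⊣ DRing.restrictD (algebraMap A A'))
    (h : (algebraMap A A').comp (algebraMap R A) = (algebraMap R' A').comp (algebraMap R R'))
    (K : Dual.D A) : IsIso (TrivBC.cmp adjρ adjα h K) :=
  isIso_cmp h adjρ adjα (isZero_extend_baseMod R A R' htor) (isIso_sqτ₀ R A R' A' h) K

end Pushout

end Groth.Agent.TrivBCLib
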