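import Groth.Agent.TrivBCLib.Cmp
import Groth.Agent.DRingLib.ExactPair

/-!
# The action of an algebra on restricted objects of the derived category, and two commuting actions
-/

set_option autoImplicit false
set_option linter.style.haveILetI false
set_option linter.unusedSectionVars false
set_option backward.isDefEq.respectTransparency false

universe u

open CategoryTheory Limits MonoidalCategory DTen
attribute [local instance] HasDerivedCategory.standard

noncomputable section

namespace Groth.Agent.TrivBCLib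

open Groth.Agent.DTenLib Groth.Agent.DRingLib

section Single

variable {R A : Type u} [CommRing R] [CommRing A] (f : R →+* A)

/-- Restriction of the action of the coefficient ring, on complexes. -/
def actCx (Y : DRing.Cx A) : ((resCx f).obj (𝟙_ (DRing.Cx A)) ⊗ (resCx f).obj Y : DRing.Cx R) ⟶ (resCx f).obj Y :=
  resTenCx f (𝟙_ (DRing.Cx A)) Y ≫ (resCx f).map (λ_ Y).hom

theorem actCx_ιBil (Y : DRing.Cx A) (q : ℤ) (v : (𝟙_ (DRing.Cx A)).X 0) (y : Y.X q) :
    ((actCx f Y).f q).hom (ιBil ((resCx f).obj (𝟙_ (DRing.Cx A))) ((resCx f).obj Y) 0 q q (zero_add q) v y) =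
      (show ((resCx f).obj Y).X q from unitCoord v • y) := by
  have h1 := congrArg (fun m => m.hom ((show ((resCx f).obj (𝟙_ (DRing.Cx A))).X 0 from v) ⊗ₜ[R]
    (show ((resCx f).obj Y).X q from y))) (ι_resTenCx f (𝟙_ (DRing.Cx A)) Y 0 q q (zero_add q))
  have h2 : ((resTenCx f (𝟙_ (DRing.Cx A)) Y).f q).hom
      (ιBil ((resCx f).obj (𝟙_ (DRing.Cx A))) ((resCx f).obj Y) 0 q q (zero_add q) v y) =
      ιBil (𝟙_ (DRing.Cx A)) Y 0 q q (zero_add q) v y := h1
  show ((λ_ Y).hom.f q).hom (((resTenCx f (𝟙_ (DRing.Cx A)) Y).f q).hom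
      (ιBil ((resCx f).obj (𝟙_ (DRing.Cx A))) ((resCx f).obj Y) 0 q q (zero_add q) v y)) = unitCoord v • y
  rw [h2]
  conv_lhs => rw [← unitCoord_smul v, map_smul, LinearMap.smul_apply, map_smul]
  refine congrArg (unitCoord v • ·) ?_
  rw [← leftUnitor_inv_apply (K := Y) q y]
  exact congrArg (fun m => m.hom y) ((HomologicalComplex.comp_f (λ_ Y).inv (λ_ Y).hom q).symm.trans
    (congrArg (fun m : Y ⟶ Y => m.f q) (λ_ Y).inv_hom_id))

variable [HasLTen R] [HasLTen A] [HasResTen f] [ResLegIso f]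

/-- The action of the restricted unit on a restricted object. -/
def act (X : Dual.D A) :
    (LTen₂ R).obj ((DRing.restrictD f).obj (unit A), (DRing.restrictD f).obj X) ⟶ (DRing.restrictD f).obj X :=
  (resPF f).app (unit A, X) ≫ (DRing.restrictD f).map ((unitL A).app X)

theorem act_natural {X X₁ : Dual.D A} (x : X ⟶ X₁) :
    tmap (𝟙 ((DRing.restrictD f).obj (unit A))) ((DRing.restrictD f).map x) ≫ act f X₁ =
      act f X ≫ (DRing.restrictD f).map x := by
  haveI := hasLBase f
  rw [act, act, ← CategoryTheory.Functor.map_id (DRing.restrictD f) (unit A), Category.assoc, ← Functor.map_comp]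
  erw [reassoc_of% (tmap_natural_resPF f (𝟙 (unit A)) x)]
  rw [← Functor.map_comp]
  exact congrArg (fun w => (resPF f).app (unit A, X) ≫ (DRing.restrictD f).map w) ((unitL A).naturality x)

theorem act_Q (Y : DRing.Cx A) :
    act f (DerivedCategory.Q.obj Y) ≫ (resFactors f).hom.app Y =
      tmap ((resFactors f).hom.app (𝟙_ (DRing.Cx A))) ((resFactors f).hom.app Y) ≫
        (ε R).app ((resCx f).obj (𝟙_ (DRing.Cx A)), (resCx f).obj Y) ≫ DerivedCategory.Q.map (actCx f Y) := by
  haveI := hasLBase f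
  rw [act, unitL_app, Functor.map_comp]
  simp only [Category.assoc]
  erw [reassoc_of% (resPF_ε f (𝟙_ (DRing.Cx A)) Y), (resFactors f).hom.naturality (λ_ Y).hom]
  erw [Iso.inv_hom_id_app_assoc]
  rw [actCx, Functor.map_comp]
  rfl

/-- The action, on the other side. -/
def actR (X : Dual.D A) :
    (LTen₂ R).obj ((DRing.restrictD f).obj X, (DRing.restrictD f).obj (unit A)) ⟶ (DRing.restrictD f).obj X :=
  (DTen.symm R).app ((DRing.restrictD f).obj (unit A), (DRing.restrictD f).obj X) ≫ act f X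

theorem actR_natural {X X₁ : Dual.D A} (x : X ⟶ X₁) :
    tmap ((DRing.restrictD f).map x) (𝟙 ((DRing.restrictD f).obj (unit A))) ≫ actR f X₁ =
      actR f X ≫ (DRing.restrictD f).map x := by
  rw [actR, actR, Category.assoc, ← act_natural, ← Category.assoc, ← Category.assoc]
  exact congrArg (· ≫ act f X₁) ((DTen.symm R).naturality
    (Prod.mkHom (𝟙 ((DRing.restrictD f).obj (unit A))) ((DRing.restrictD f).map x)))

theorem actR_Q (Y : DRing.Cx A) :
    actR f (DerivedCategory.Q.obj Y) ≫ (resFactors f).hom.app Y =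
      tmap ((resFactors f).hom.app Y) ((resFactors f).hom.app (𝟙_ (DRing.Cx A))) ≫
        (ε R).app ((resCx f).obj Y, (resCx f).obj (𝟙_ (DRing.Cx A))) ≫
          DerivedCategory.Q.map
            ((braidCx ((resCx f).obj Y) ((resCx f).obj (𝟙_ (DRing.Cx A)))).hom ≫ actCx f Y) := by
  rw [actR, Category.assoc, act_Q]
  erw [← reassoc_of% ((DTen.symm R).naturality (Prod.mkHom ((resFactors f).hom.app (𝟙_ (DRing.Cx A)))
    ((resFactors f).hom.app Y)))]
  erw [reassoc_of% (DTen.symm_fac R ((resCx f).obj (𝟙_ (DRing.Cx A))) ((resCx f).obj Y))]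
  rw [← Functor.map_comp]
  rfl

end Single

section Square

variable {R A R' A' : Type u} [CommRing R] [CommRing A] [CommRing R'] [CommRing A']
  {φ : R →+* A} {ρ : R →+* R'} {α : A →+* A'} {φ' : R' →+* A'} (h : α.comp φ = φ'.comp ρ)

instance isIso_commCx (E : DRing.Cx A') : IsIso (commCx h E) := by
  rw [commCx]; infer_instance

theorem inv_commCx_f (E : DRing.Cx A') (i : ℤ) (x : E.X i) :
    ((inv (commCx h E)).f i).hom
        (show ((resCx ρ).obj ((resCx φ').obj E)).X i from x) = x := by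
  have e : ((commCx h E ≫ inv (commCx h E)).f i).hom
      (show ((resCx φ).obj ((resCx α).obj E)).X i from x) = x := by rw [IsIso.hom_inv_id]; rfl
  exact e

/-- The action of the second ring, on complexes. -/
def wCx (E : DRing.Cx A') :
    ((resCx ρ).obj (𝟙_ (DRing.Cx R')) ⊗ (resCx φ).obj ((resCx α).obj E) : DRing.Cx R) ⟶
      (resCx φ).obj ((resCx α).obj E) :=
  (resCx ρ).obj (𝟙_ (DRing.Cx R')) ◁ commCx h E ≫ actCx ρ ((resCx φ').obj E) ≫ inv (commCx h E)

theorem wCx_ιBil (E : DRing.Cx A') (q : ℤ) (v : (𝟙_ (DRing.Cx R')).X 0) (x : E.X q) :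
    ((wCx h E).f q).hom (ιBil ((resCx ρ).obj (𝟙_ (DRing.Cx R'))) ((resCx φ).obj ((resCx α).obj E)) 0 q q
        (zero_add q) v x) = (φ' (unitCoord v) • x : E.X q) := by
  show ((inv (commCx h E)).f q).hom (((actCx ρ ((resCx φ').obj E)).f q).hom
    ((((resCx ρ).obj (𝟙_ (DRing.Cx R')) ◁ commCx h E).f q).hom
      (ιBil ((resCx ρ).obj (𝟙_ (DRing.Cx R'))) ((resCx φ).obj ((resCx α).obj E)) 0 q q (zero_add q) v x))) = _
  rw [whiskerLeft_ιBil]
  erw [actCx_ιBil ρ ((resCx φ').obj E) q v x]
  exact inv_commCx_f h E q _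

/-- The two actions commute, on complexes. -/
theorem wCx_comm (E : DRing.Cx A') :
    wCx h E ▷ (resCx φ).obj (𝟙_ (DRing.Cx A)) ≫
        (braidCx ((resCx φ).obj ((resCx α).obj E)) ((resCx φ).obj (𝟙_ (DRing.Cx A)))).hom ≫
          actCx φ ((resCx α).obj E) =
      (α_ _ _ _).hom ≫ (resCx ρ).obj (𝟙_ (DRing.Cx R')) ◁
          ((braidCx ((resCx φ).obj ((resCx α).obj E)) ((resCx φ).obj (𝟙_ (DRing.Cx A)))).hom ≫
            actCx φ ((resCx α).obj E)) ≫ wCx h E := by
  let P := (resCx ρ).obj (𝟙_ (DRing.Cx R'))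
  let X := (resCx φ).obj ((resCx α).obj E)
  let B := (resCx φ).obj (𝟙_ (DRing.Cx A))
  have hm : ∀ (q : ℤ) (x : E.X q) (a : (𝟙_ (DRing.Cx A)).X 0),
      (((braidCx X B).hom ≫ actCx φ ((resCx α).obj E)).f q).hom (ιBil X B q 0 q (add_zero q) x a) =
        (α (unitCoord a) • x : E.X q) := fun q x a => by
    have hb : ((braidCx X B).hom.f q).hom (ιBil X B q 0 q (add_zero q) x a) =
        ιBil B X 0 q q (zero_add q) a x := by
      have h1 := congrArg (fun m => m.hom ((show X.X q from x) ⊗ₜ[R] (show B.X 0 from a)))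
        (ι_braidCx_hom X B q 0 q (add_zero q))
      rw [mul_zero, Int.negOnePow_zero, one_smul] at h1
      exact h1
    show ((actCx φ ((resCx α).obj E)).f q).hom (((braidCx X B).hom.f q).hom
      (ιBil X B q 0 q (add_zero q) x a)) = _
    rw [hb]
    exact actCx_ιBil φ ((resCx α).obj E) q a x
  refine HomologicalComplex.hom_ext _ _ fun n => ModuleCat.hom_ext ?_
  refine LinearMap.ext fun z => ?_
  refine ιBil_span (K := P ⊗ X) (L := B) (fun z => _ = _) ((map_zero _).trans (map_zero _).symm)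
    (fun a b ha hb => (map_add _ a b).trans ((congrArg₂ (· + ·) ha hb).trans (map_add _ a b).symm))
    (fun c a ha => (map_smul _ c a).trans ((congrArg (c • ·) ha).trans (map_smul _ c a).symm))
    (fun s r hsr w a => ?_) z
  by_cases hr : r = 0
  swap
  · haveI : Subsingleton (B.X r) := ModuleCat.subsingleton_of_isZero
      ((ModuleCat.restrictScalars.{u} φ).map_isZero
        (HomologicalComplex.isZero_single_obj_X (ComplexShape.up ℤ) 0 _ r hr))
    obtain rfl : a = 0 := Subsingleton.elim _ _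
    rw [show ιBil (P ⊗ X) B s r n hsr w 0 = 0 from map_zero _]
    exact (map_zero _).trans (map_zero _).symm
  subst hr
  obtain rfl : s = n := by omega
  let F := fun w => ((wCx h E ▷ B ≫ (braidCx X B).hom ≫ actCx φ ((resCx α).obj E)).f s).hom
    (ιBil (P ⊗ X) B s 0 s hsr w a)
  let G := fun w => (((α_ P X B).hom ≫ P ◁ ((braidCx X B).hom ≫ actCx φ ((resCx α).obj E)) ≫ wCx h E).f s).hom
    (ιBil (P ⊗ X) B s 0 s hsr w a)
  refine ιBil_span (K := P) (L := X) (fun w => F w = G w) (by simp [F, G]) (fun x y hx hy => ?_) (fun c x hx => ?_)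
    (fun p q hpq v x => ?_) w
  · simp only [F, G, map_add, LinearMap.add_apply] at hx hy ⊢
    exact congrArg₂ (· + ·) hx hy
  · simp only [F, G, map_smul, LinearMap.smul_apply] at hx ⊢
    exact congrArg (c • ·) hx
  by_cases hp : p = 0
  swap
  · haveI : Subsingleton (P.X p) := ModuleCat.subsingleton_of_isZero
      ((ModuleCat.restrictScalars.{u} ρ).map_isZero
        (HomologicalComplex.isZero_single_obj_X (ComplexShape.up ℤ) 0 _ p hp))
    obtain rfl : v = 0 := Subsingleton.elim _ _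
    simp only [F, G, map_zero, LinearMap.zero_apply]
  subst hp
  obtain rfl : q = s := by omega
  show ((((braidCx X B).hom ≫ actCx φ ((resCx α).obj E))).f q).hom (((wCx h E ▷ B).f q).hom
      (ιBil (P ⊗ X) B q 0 q (add_zero q) (ιBil P X 0 q q (zero_add q) v x) a)) =
    ((wCx h E).f q).hom (((P ◁ ((braidCx X B).hom ≫ actCx φ ((resCx α).obj E))).f q).hom (((α_ P X B).hom.f q).hom
      (ιBil (P ⊗ X) B q 0 q (add_zero q) (ιBil P X 0 q q (zero_add q) v x) a)))
  rw [associator_ιBil 0 q 0 q q q (zero_add q) (add_zero q) (add_zero q) (zero_add q), whiskerRight_ιBil,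
    whiskerLeft_ιBil]
  erw [wCx_ιBil h E q v x, hm q _ a, hm q x a, wCx_ιBil h E q v _]
  exact smul_comm _ _ _

variable [HasLTen R] [HasLTen A] [HasLTen R'] [HasResTen φ] [ResLegIso φ] [HasResTen ρ] [ResLegIso ρ]

/-- The action of the second ring on an object restricted from the pushout. -/
def wAct (Y : Dual.D A') :
    (LTen₂ R).obj ((DRing.restrictD ρ).obj (unit R'), (DRing.restrictD φ).obj ((DRing.restrictD α).obj Y)) ⟶
      (DRing.restrictD φ).obj ((DRing.restrictD α).obj Y) :=
  tmap (𝟙 _) ((TrivBC.resComm h).hom.app Y) ≫ act ρ ((DRing.restrictD φ').obj Y) ≫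
    (TrivBC.resComm h).inv.app Y

theorem wAct_natural {Y Y₁ : Dual.D A'} (y : Y ⟶ Y₁) :
    tmap (𝟙 _) ((DRing.restrictD φ).map ((DRing.restrictD α).map y)) ≫ wAct h Y₁ =
      wAct h Y ≫ (DRing.restrictD φ).map ((DRing.restrictD α).map y) := by
  rw [wAct, wAct, ← Category.assoc, tmap_comp, Category.comp_id]
  erw [(TrivBC.resComm h).hom.naturality y]
  rw [← Category.id_comp (𝟙 _), ← tmap_comp]
  simp only [Category.assoc, Category.id_comp]
  erw [reassoc_of% (act_natural ρ ((DRing.restrictD φ').map y)), (TrivBC.resComm h).inv.naturality y]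
  rfl

/-- The identification of a twice restricted complex. -/
def qE (E : DRing.Cx A') :
    (DRing.restrictD φ).obj ((DRing.restrictD α).obj (DerivedCategory.Q.obj E)) ≅
      DerivedCategory.Q.obj ((resCx φ).obj ((resCx α).obj E)) :=
  (DRing.restrictD φ).mapIso ((resFactors α).app E) ≪≫ (resFactors φ).app _

theorem resComm_qE (E : DRing.Cx A') :
    (TrivBC.resComm h).hom.app (DerivedCategory.Q.obj E) ≫
        (DRing.restrictD ρ).map ((resFactors φ').hom.app E) ≫ (resFactors ρ).hom.app ((resCx φ').obj E) =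
      (qE E).hom ≫ DerivedCategory.Q.map (commCx h E) := by
  rw [resComm_Q h]
  simp only [Category.assoc, ← Functor.map_comp_assoc, Iso.inv_hom_id_app, CategoryTheory.Functor.map_id,
    Category.id_comp, qE, Iso.trans_hom, Functor.mapIso_hom, Iso.app_hom]
  erw [CategoryTheory.Functor.map_id, Category.id_comp, Iso.inv_hom_id_app, Category.comp_id]

theorem wAct_Q (E : DRing.Cx A') :
    wAct h (DerivedCategory.Q.obj E) ≫ (qE E).hom =
      tmap ((resFactors ρ).hom.app (𝟙_ (DRing.Cx R'))) (qE E).hom ≫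
        (ε R).app ((resCx ρ).obj (𝟙_ (DRing.Cx R')), (resCx φ).obj ((resCx α).obj E)) ≫
          DerivedCategory.Q.map (wCx h E) := by
  have h1 : (TrivBC.resComm h).inv.app (DerivedCategory.Q.obj E) ≫ (qE E).hom =
      (DRing.restrictD ρ).map ((resFactors φ').hom.app E) ≫ (resFactors ρ).hom.app ((resCx φ').obj E) ≫
        DerivedCategory.Q.map (inv (commCx h E)) := by
    rw [← cancel_epi ((TrivBC.resComm h).hom.app (DerivedCategory.Q.obj E)), Iso.hom_inv_id_app_assoc,
      reassoc_of% (resComm_qE h E), ← Functor.map_comp, IsIso.hom_inv_id, CategoryTheory.Functor.map_id]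
    exact (Category.comp_id _).symm
  have h2 : tmap (𝟙 ((DRing.restrictD ρ).obj (unit R'))) ((TrivBC.resComm h).hom.app (DerivedCategory.Q.obj E)) ≫
      tmap (𝟙 _) ((DRing.restrictD ρ).map ((resFactors φ').hom.app E)) ≫
      tmap ((resFactors ρ).hom.app (𝟙_ (DRing.Cx R'))) ((resFactors ρ).hom.app ((resCx φ').obj E)) =
      tmap ((resFactors ρ).hom.app (𝟙_ (DRing.Cx R'))) (qE E).hom ≫
        tmap (DerivedCategory.Q.map (𝟙 _)) (DerivedCategory.Q.map (commCx h E)) := by
    rw [tmap_comp, tmap_comp, tmap_comp, resComm_qE h E, DerivedCategory.Q.map_id]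
    simp only [Category.id_comp, Category.comp_id]
    erw [Category.comp_id]
  rw [wAct, Category.assoc, Category.assoc, h1]
  erw [← reassoc_of% (act_natural ρ ((resFactors φ').hom.app E)),
    reassoc_of% (act_Q ρ ((resCx φ').obj E))]
  rw [← Category.assoc, ← Category.assoc, Category.assoc (tmap (𝟙 _) ((TrivBC.resComm h).hom.app _))]
  erw [h2]
  simp only [Category.assoc]
  erw [reassoc_of% ((ε R).naturality (Prod.mkHom (𝟙 ((resCx ρ).obj (𝟙_ (DRing.Cx R')))) (commCx h E)))]
  dsimp
  rw [← Functor.map_comp, ← Functor.map_comp, MonoidalCategory.id_whiskerRight, Category.id_comp]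
  rfl

variable [HasLTen₃ R] [IsSymMonoidal R]

theorem associator_Q (K L M : DRing.Cx R) :
    (DTen.associator (DerivedCategory.Q.obj K) (DerivedCategory.Q.obj L) (DerivedCategory.Q.obj M)).hom ≫
        tmap (𝟙 (DerivedCategory.Q.obj K)) ((ε R).app (L, M)) ≫ (ε R).app (K, L ⊗ M) =
      tmap ((ε R).app (K, L)) (𝟙 (DerivedCategory.Q.obj M)) ≫ (ε R).app (K ⊗ L, M) ≫
        DerivedCategory.Q.map (α_ K L M).hom := by
  have hR := assocR_fac R (K, (L, M))
  have hL := assocL_fac R (K, (L, M))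
  dsimp [βR, βL] at hR hL
  erw [← hR, ← hL, associator_hom_assocR_assoc]

/-- The two actions commute. -/
theorem wAct_comm (Y : Dual.D A') :
    tmap (wAct h Y) (𝟙 _) ≫ actR φ ((DRing.restrictD α).obj Y) =
      (DTen.associator _ _ _).hom ≫ tmap (𝟙 _) (actR φ ((DRing.restrictD α).obj Y)) ≫ wAct h Y := by
  suffices hQ : ∀ E : DRing.Cx A', tmap (wAct h (DerivedCategory.Q.obj E)) (𝟙 _) ≫
      actR φ ((DRing.restrictD α).obj (DerivedCategory.Q.obj E)) =
      (DTen.associator _ _ _).hom ≫ tmap (𝟙 _) (actR φ ((DRing.restrictD α).obj (DerivedCategory.Q.obj E))) ≫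
        wAct h (DerivedCategory.Q.obj E) by
    let e := DerivedCategory.Q.objObjPreimageIso Y
    let g := (DRing.restrictD φ).map ((DRing.restrictD α).map e.hom)
    haveI : IsIso (tmap (tmap (𝟙 ((DRing.restrictD ρ).obj (unit R'))) g) (𝟙 ((DRing.restrictD φ).obj (unit A)))) :=
      ((LTen₂ R).mapIso (Iso.prod ((LTen₂ R).mapIso (Iso.prod (Iso.refl _)
        ((DRing.restrictD φ).mapIso ((DRing.restrictD α).mapIso e)))) (Iso.refl _))).isIso_hom
    rw [← cancel_epi (tmap (tmap (𝟙 ((DRing.restrictD ρ).obj (unit R'))) g) (𝟙 ((DRing.restrictD φ).obj (unit A))))]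
    rw [reassoc_of% (associator_naturality (𝟙 _) g (𝟙 _))]
    rw [← Category.assoc (tmap (tmap (𝟙 _) g) (𝟙 _)), ← Category.assoc (tmap (𝟙 _) (tmap g (𝟙 _))),
      tmap_comp, tmap_comp, wAct_natural, actR_natural,
      ← tmap_comp (wAct h _), ← tmap_comp (𝟙 ((DRing.restrictD ρ).obj (unit R'))), Category.assoc, Category.assoc,
      actR_natural, reassoc_of% (hQ _), wAct_natural]
  intro E
  let X := (resCx φ).obj ((resCx α).obj E)
  let P := (resCx ρ).obj (𝟙_ (DRing.Cx R'))
  let B := (resCx φ).obj (𝟙_ (DRing.Cx A))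
  let pP := (resFactors ρ).hom.app (𝟙_ (DRing.Cx R'))
  let pB := (resFactors φ).hom.app (𝟙_ (DRing.Cx A))
  let m : (X ⊗ B : DRing.Cx R) ⟶ X := (braidCx X B).hom ≫ actCx φ ((resCx α).obj E)
  have hm : actR φ ((DRing.restrictD α).obj (DerivedCategory.Q.obj E)) ≫ (qE E).hom =
      tmap (qE E).hom pB ≫ (ε R).app (X, B) ≫ DerivedCategory.Q.map m := by
    have hn := actR_natural φ ((resFactors α).hom.app E)
    show _ ≫ (DRing.restrictD φ).map ((resFactors α).hom.app E) ≫ (resFactors φ).hom.app _ = _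
    rw [← reassoc_of% hn]
    erw [actR_Q φ ((resCx α).obj E)]
    rw [← Category.assoc, tmap_comp, Category.id_comp]
    rfl
  rw [← cancel_mono (qE E).hom]
  simp only [Category.assoc]
  rw [hm, wAct_Q, ← Category.assoc, tmap_comp, Category.id_comp, ← Category.assoc (tmap (𝟙 _) (actR φ _)),
    tmap_comp, Category.id_comp, hm, wAct_Q]
  have e1 : tmap (tmap pP (qE E).hom ≫ (ε R).app (P, X) ≫ DerivedCategory.Q.map (wCx h E)) pB ≫ (ε R).app (X, B) =
      tmap (tmap pP (qE E).hom) pB ≫ tmap ((ε R).app (P, X)) (𝟙 _) ≫ (ε R).app (P ⊗ X, B) ≫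
        DerivedCategory.Q.map (wCx h E ▷ B) := by
    have n := (ε R).naturality (Prod.mkHom (wCx h E) (𝟙 B))
    dsimp at n
    rw [MonoidalCategory.whiskerLeft_id, Category.comp_id, DerivedCategory.Q.map_id] at n
    erw [← n]
    simp only [← Category.assoc, tmap_comp, Category.comp_id]
    erw [Category.comp_id]
  have e2 : tmap pP (tmap (qE E).hom pB ≫ (ε R).app (X, B) ≫ DerivedCategory.Q.map m) ≫ (ε R).app (P, X) =
      tmap pP (tmap (qE E).hom pB) ≫ tmap (𝟙 _) ((ε R).app (X, B)) ≫ (ε R).app (P, X ⊗ B) ≫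
        DerivedCategory.Q.map (P ◁ m) := by
    have n := (ε R).naturality (Prod.mkHom (𝟙 P) m)
    dsimp at n
    rw [MonoidalCategory.id_whiskerRight, Category.id_comp, DerivedCategory.Q.map_id] at n
    erw [← n]
    simp only [← Category.assoc, tmap_comp, Category.comp_id]
    erw [Category.comp_id]
  erw [reassoc_of% e1, reassoc_of% e2, reassoc_of% (associator_naturality pP (qE E).hom pB).symm,
    reassoc_of% (associator_Q P X B)]
  simp only [← Functor.map_comp]
  rw [wCx_comm]

end Square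

end Groth.Agent.TrivBCLib
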