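import Groth.Agent.DTenLib.BaseTensor
import Groth.Agent.DTenLib.Binders
import Groth.Agent.DTenLib.Exact
import Groth.Agent.DTenLib.EvalTenRight
import Groth.Agent.DCohLib.HtpAdj
import Groth.Agent.KInj.Lifting
import Mathlib.Algebra.Homology.BifunctorHomotopy
import Mathlib.Algebra.Homology.DerivedCategory.KInjective
import Mathlib.CategoryTheory.Adjunction.Comma
import Mathlib.CategoryTheory.Adjunction.AdjointFunctorTheorems
import Mathlib.Algebra.Homology.GrothendieckAbelian

/-!
# The binders of the closed monoidal derived category of a ring hold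
-/

set_option autoImplicit false
set_option linter.style.haveILetI false
set_option backward.isDefEq.respectTransparency false

universe u

open CategoryTheory Limits MonoidalCategory DTen HomologicalComplex
attribute [local instance] HasDerivedCategory.standard

noncomputable section

namespace Groth.Agent.TrivBCLib

open Groth.Agent.DTenLib Groth.Agent.DCohLib

section Res

variable {R R' : Type u} [CommRing R] [CommRing R'] (φ : R →+* R')

theorem hasLBase : HasLBase φ := ⟨⟨⟨baseFun φ, ⟨baseFunAdj φ⟩⟩⟩⟩

theorem isIso_resTen₂_map {X Y : DRing.Cx R' × DRing.Cx R'} (f : X ⟶ Y) (h₁ : QuasiIso f.1)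
    (h₂ : QuasiIso f.2) (hX : DRing.IsKFlat R' X.2) (hY : DRing.IsKFlat R' Y.2) :
    IsIso ((resTen₂ φ).map f) := by
  haveI h : IsIso ((DTen.tensor₂ R').map f) := isIso_tensor₂_map f h₁ h₂ hX hY
  exact (NatIso.isIso_map_iff (resFactors φ) ((tensorT R').map f)).1
    (inferInstanceAs (IsIso ((DRing.restrictD φ).map ((DTen.tensor₂ R').map f))))

/-- Pairs of resolutions compute the restricted tensor product. -/
def adaptedRes : Adapted (DTen.qis₂ R') (resTen₂ φ) where
  P := (resA R').prod (resA R')
  ψ := NatTrans.prod (resAπ R') (resAπ R')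
  hψ := (adapted₂ R').hψ
  inverts _ _ f hf := isIso_resTen₂_map φ _
    (quasiIso_resA_map _ ((HomologicalComplex.mem_quasiIso_iff _).1 hf.1))
    (quasiIso_resA_map _ ((HomologicalComplex.mem_quasiIso_iff _).1 hf.2))
    (isKFlat_resA _) (isKFlat_resA _)
  isIso_map X := isIso_resTen₂_map φ _ (quasiIso_resAπ ((resA R').obj X.1))
    (quasiIso_resAπ ((resA R').obj X.2)) (isKFlat_resA _) (isKFlat_resA _)

theorem hasResTen : HasResTen φ := (adaptedRes φ).hasLeftDerivedFunctor (QQ R')

theorem isIso_εRes [HasResTen φ] (K L : DRing.Cx R') (hL : DRing.IsKFlat R' L) :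
    IsIso ((εRes φ).app (K, L)) :=
  (adaptedRes φ).isIso_app (DTen.QQ R') (ResTen φ) (εRes φ) (K, L)
    (isIso_resTen₂_map φ _ (quasiIso_resAπ K) (quasiIso_resAπ L) (isKFlat_resA L) hL)

theorem resLegIso [HasLTen R'] [HasResTen φ] : ResLegIso φ := by
  refine ⟨?_⟩
  haveI : ∀ E, IsIso ((resLegB φ).app E) := fun E => by
    let Y := repr E.1
    let Y' := repr E.2
    haveI := isIso_ε_right Y Y' (isKFlat_repr _)
    haveI := isIso_εRes φ Y Y' (isKFlat_repr _)
    haveI : IsIso ((resβB φ).app (Y, Y')) :=
      inferInstanceAs (IsIso ((DRing.restrictD φ).map ((ε R').app (Y, Y')) ≫ (resFactors φ).hom.app _))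
    haveI : IsIso ((resLegB φ).app ((QQ R').obj (Y, Y'))) := IsIso.of_isIso_fac_right (resLegB_fac φ (Y, Y'))
    have h : IsIso ((resLegB φ).app ((QQ R').obj (Y, Y'))) := inferInstance
    exact (NatTrans.isIso_app_iff_of_iso (resLegB φ)
      (Iso.prod (reprIso E.1) (reprIso E.2) : (QQ R').obj (Y, Y') ≅ E)).1 h
  exact NatIso.isIso_of_isIso_app _

end Res

section RHom

variable {A : Type u} [CommRing A]

/-- Tensoring with a fixed complex on the right. -/
abbrev tensE (E : DRing.Cx A) : DRing.Cx A ⥤ DRing.Cx A :=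
  KFlat.totR (curriedTensor (ModuleCat.{u} A)) E

theorem isLeftAdjoint_tensE (E : DRing.Cx A) : (tensE E).IsLeftAdjoint := by
  haveI : PreservesColimitsOfSize.{u, u} (KFlat.tot (curriedTensor (ModuleCat.{u} A)).flip E) :=
    ⟨fun {I} _ => by
      haveI : ∀ M, PreservesColimitsOfShape I ((curriedTensor (ModuleCat.{u} A)).flip.obj M) :=
        fun M => inferInstanceAs (PreservesColimitsOfShape I (tensorRight M))
      exact KFlat.preservesColimitsOfShape_tot _ E I⟩
  haveI : PreservesColimitsOfSize.{u, u} (tensE E) :=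
    preservesColimits_of_natIso (KFlat.totRIso (curriedTensor (ModuleCat.{u} A)) E)
  haveI : IsGrothendieckAbelian.{u} (DRing.Cx A) :=
    HomologicalComplex.isGrothendieckAbelian (C := ModuleCat.{u} A) (c := ComplexShape.up ℤ)
  haveI : HasColimitsOfSize.{u, u} (DRing.Cx A) := IsGrothendieckAbelian.hasColimits.{u} _
  haveI : WellPowered.{u} (DRing.Cx A) := IsGrothendieckAbelian.wellPowered (C := DRing.Cx A)
  haveI : WellPowered.{u} (DRing.Cx A)ᵒᵖ := CategoryTheory.Abelian.wellPowered_opposite (C := DRing.Cx A)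
  obtain ⟨G, hG⟩ : ∃ G : DRing.Cx A, IsSeparator G := HasSeparator.hasSeparator
  exact isLeftAdjoint_of_preservesColimits_of_isSeparating (P := ObjectProperty.singleton G) hG _

theorem htpCompat (E : DRing.Cx A) [(tensE E).IsLeftAdjoint] :
    DCohLib.HtpCompat (Adjunction.ofIsLeftAdjoint (tensE E)) where
  map {M N} f := by
    rintro ⟨h⟩
    refine ⟨(mapBifunctorMapHomotopy₁ h (𝟙 E) (curriedTensor (ModuleCat.{u} A)) (ComplexShape.up ℤ)).trans
      (Homotopy.ofEq ?_)⟩
    exact (tensE E).map_zero M N
  split M := by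
    let C := CochainComplex.mappingCone (𝟙 M)
    refine ⟨fun n => mapBifunctorDesc fun p q h =>
      ((curriedTensor (ModuleCat.{u} A)).map ((CochainComplex.mappingCone.snd (𝟙 M)).v p p (add_zero p))).app (E.X q) ≫
        ιMapBifunctor M E (curriedTensor (ModuleCat.{u} A)) (ComplexShape.up ℤ) p q n h, fun n => ?_⟩
    refine mapBifunctor.hom_ext fun p q h => ?_
    refine (reassoc_of% (ι_mapBifunctorMap (CochainComplex.mappingCone.inr (𝟙 M)) (𝟙 E)
      (curriedTensor (ModuleCat.{u} A)) (ComplexShape.up ℤ) p q n h)) _ |>.trans ?_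
    erw [ι_mapBifunctorDesc]
    rw [HomologicalComplex.id_f, CategoryTheory.Functor.map_id, Category.id_comp, ← NatTrans.comp_app_assoc,
      ← Functor.map_comp, CochainComplex.mappingCone.inr_f_snd_v, CategoryTheory.Functor.map_id, NatTrans.id_app,
      Category.id_comp]
    exact (Category.comp_id _).symm

theorem exists_Q_map_eq {K J : DRing.Cx A} [CochainComplex.IsKInjective J]
    (k : DerivedCategory.Q.obj K ⟶ DerivedCategory.Q.obj J) : ∃ g : K ⟶ J, DerivedCategory.Q.map g = k := by
  obtain ⟨g', hg'⟩ := (CochainComplex.IsKInjective.Qh_map_bijective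
    ((HomotopyCategory.quotient (ModuleCat.{u} A) (ComplexShape.up ℤ)).obj K) J).surjective
    ((DerivedCategory.quotientCompQhIso _).hom.app K ≫ k ≫ (DerivedCategory.quotientCompQhIso _).inv.app J)
  obtain ⟨g, rfl⟩ := (HomotopyCategory.quotient (ModuleCat.{u} A) (ComplexShape.up ℤ)).map_surjective g'
  refine ⟨g, ?_⟩
  rw [← cancel_epi ((DerivedCategory.quotientCompQhIso _).hom.app K),
    ← (DerivedCategory.quotientCompQhIso _).hom.naturality g]
  dsimp only [Functor.comp_map]
  rw [hg']
  simp

theorem nonempty_homotopy_of_Q_map_eq {K J : DRing.Cx A} [CochainComplex.IsKInjective J] {a b : K ⟶ J}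
    (h : DerivedCategory.Q.map a = DerivedCategory.Q.map b) : Nonempty (Homotopy a b) := by
  refine ⟨HomotopyCategory.homotopyOfEq _ _ ((CochainComplex.IsKInjective.Qh_map_bijective
    ((HomotopyCategory.quotient (ModuleCat.{u} A) (ComplexShape.up ℤ)).obj K) J).injective ?_)⟩
  have h1 := (DerivedCategory.quotientCompQhIso (ModuleCat.{u} A)).hom.naturality a
  have h2 := (DerivedCategory.quotientCompQhIso (ModuleCat.{u} A)).hom.naturality b
  exact (cancel_mono ((DerivedCategory.quotientCompQhIso _).hom.app J)).1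
    (h1.trans ((congrArg (_ ≫ ·) h).trans h2.symm))

theorem Q_map_eq_of_homotopy {K J : DRing.Cx A} {a b : K ⟶ J} (h : Homotopy a b) :
    DerivedCategory.Q.map a = DerivedCategory.Q.map b := by
  have h1 := (DerivedCategory.quotientCompQhIso (ModuleCat.{u} A)).hom.naturality a
  have h2 := (DerivedCategory.quotientCompQhIso (ModuleCat.{u} A)).hom.naturality b
  refine (cancel_epi ((DerivedCategory.quotientCompQhIso _).hom.app K)).1 (h1.symm.trans (Eq.trans ?_ h2))
  exact congrArg (fun q => DerivedCategory.Qh.map q ≫ _) (HomotopyCategory.eq_of_homotopy _ _ h)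

variable [HasLTen A]

theorem isLeftAdjoint_tensorRightD_Q (E : DRing.Cx A) (hE : DRing.IsKFlat A E) :
    (tensorRightD A (DerivedCategory.Q.obj E)).IsLeftAdjoint := by
  haveI := isLeftAdjoint_tensE E
  let F := tensorRightD A (DerivedCategory.Q.obj E)
  let fac : DerivedCategory.Q ⋙ F ≅ tensE E ⋙ DerivedCategory.Q := εRightIso E hE
  have hterm : ∀ Y : Dual.D A, HasTerminal (CostructuredArrow F Y) := fun Y => by
    obtain ⟨Y', ⟨eY⟩⟩ : ∃ Y', Nonempty (DerivedCategory.Q.obj Y' ≅ Y) :=
      ⟨_, ⟨DerivedCategory.Q.objObjPreimageIso Y⟩⟩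
    obtain ⟨I, r, hI, hr, -, -⟩ := KInj.exists_isKInjective_resolution Y'
    haveI := hI
    haveI := hr
    let eI : DerivedCategory.Q.obj I ≅ Y := (asIso (DerivedCategory.Q.map r)).symm ≪≫ eY
    let adj := Adjunction.ofIsLeftAdjoint (tensE E)
    let R := (tensE E).rightAdjoint.obj I
    haveI : CochainComplex.IsKInjective R :=
      (htpCompat E).isKInjective (fun M hM => (isKFlat_iff E).1 hE M hM) I
    let evI : F.obj (DerivedCategory.Q.obj R) ⟶ Y :=
      fac.hom.app R ≫ DerivedCategory.Q.map (adj.counit.app I) ≫ eI.hom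
    have key : ∀ (C : DRing.Cx A) (a : C ⟶ R),
        F.map (DerivedCategory.Q.map a) ≫ evI =
          fac.hom.app C ≫ DerivedCategory.Q.map ((adj.homEquiv C I).symm a) ≫ eI.hom := fun C a => by
      refine (fac.hom.naturality_assoc a _).trans ?_
      rw [Adjunction.homEquiv_counit, Functor.map_comp, Category.assoc]
      rfl
    have main : ∀ (X : Dual.D A) (g : F.obj X ⟶ Y),
        ∃! f : X ⟶ DerivedCategory.Q.obj R, F.map f ≫ evI = g := fun X g => by
      let eA := DerivedCategory.Q.objObjPreimageIso X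
      let C := DerivedCategory.Q.objPreimage X
      obtain ⟨h, hh⟩ := exists_Q_map_eq (fac.inv.app C ≫ F.map eA.hom ≫ g ≫ eI.inv)
      refine ⟨eA.inv ≫ DerivedCategory.Q.map (adj.homEquiv C I h), ?_, fun f hf => ?_⟩
      · dsimp only
        rw [Functor.map_comp, Category.assoc, key, Equiv.symm_apply_apply, hh, Category.assoc, Category.assoc,
          Category.assoc, Iso.inv_hom_id, Category.comp_id, Iso.hom_inv_id_app_assoc, ← Functor.map_comp_assoc,
          Iso.inv_hom_id, CategoryTheory.Functor.map_id, Category.id_comp]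
      · obtain ⟨a, ha⟩ := exists_Q_map_eq (eA.hom ≫ f)
        rw [← cancel_epi eA.hom, Iso.hom_inv_id_assoc, ← ha]
        have e1 : DerivedCategory.Q.map ((adj.homEquiv C I).symm a) = DerivedCategory.Q.map h := by
          have := key C a
          rw [ha, Functor.map_comp, Category.assoc, hf] at this
          rw [hh, reassoc_of% this, Iso.hom_inv_id, Category.comp_id, Iso.inv_hom_id_app_assoc]
        obtain ⟨H⟩ := nonempty_homotopy_of_Q_map_eq e1
        haveI : (tensE E).rightAdjoint.Additive := adj.right_adjoint_additive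
        have h0 : Nonempty (Homotopy ((adj.homEquiv C I).symm (a - adj.homEquiv C I h)) 0) := by
          have e : (adj.homEquiv C I).symm (a - adj.homEquiv C I h) = (adj.homEquiv C I).symm a - h := by
            rw [Adjunction.homEquiv_counit, Adjunction.homEquiv_counit, Functor.map_sub, Preadditive.sub_comp,
              ← Adjunction.homEquiv_counit, ← Adjunction.homEquiv_counit, Equiv.symm_apply_apply]
          rw [e]
          exact ⟨Homotopy.equivSubZero H⟩
        obtain ⟨H'⟩ := ((htpCompat E).null_iff _).2 h0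
        exact Q_map_eq_of_homotopy (Homotopy.equivSubZero.symm H')
    haveI : ∀ B : CostructuredArrow F Y, Nonempty (B ⟶ CostructuredArrow.mk evI) := fun B =>
      ⟨CostructuredArrow.homMk (main B.left B.hom).exists.choose (main B.left B.hom).exists.choose_spec⟩
    haveI : ∀ B : CostructuredArrow F Y, Subsingleton (B ⟶ CostructuredArrow.mk evI) := fun B =>
      ⟨fun f₁ f₂ => CostructuredArrow.hom_ext _ _
        ((main B.left B.hom).unique (CostructuredArrow.w f₁) (CostructuredArrow.w f₂))⟩
    exact hasTerminal_of_unique (CostructuredArrow.mk evI)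
  exact isLeftAdjoint_of_costructuredArrowTerminals _

/-- The derived category of a ring is closed. -/
theorem hasRHom : HasRHom A := ⟨fun L => by
  haveI := isLeftAdjoint_tensorRightD_Q (repr L) (isKFlat_repr L)
  exact Functor.isLeftAdjoint_of_iso ((LTen A).flip.mapIso (reprIso L))⟩

end RHom

end Groth.Agent.TrivBCLib
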