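import Groth.Agent.TrivBCLib.Act
import Groth.Agent.DTenLib.BaseHom

/-!
# The base change map of trivial duality and the evaluation map
-/

set_option autoImplicit false
set_option linter.style.haveILetI false
set_option linter.unusedSectionVars false
set_option backward.isDefEq.respectTransparency false

universe u

open CategoryTheory Limits MonoidalCategory DTen
attribute [local instance] HasDerivedCategory.standard

noncomputable section

namespace Groth.Agent.TrivBCLib

open Groth.Agent.DTenLib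

/-- Restriction of scalars is conservative on derived categories. -/
theorem isIso_of_restrictD {R R' : Type u} [CommRing R] [CommRing R'] (f : R →+* R') {X Y : Dual.D R'}
    (g : X ⟶ Y) [IsIso ((DRing.restrictD f).map g)] : IsIso g := by
  refine (DerivedCategory.isIso_iff _ _).2 fun i => ?_
  haveI : IsIso ((ModuleCat.restrictScalars.{u} f).map ((DerivedCategory.homologyFunctor (ModuleCat.{u} R') i).map g)) :=
    (NatIso.isIso_map_iff (Groth.Agent.TildeD.nu (ModuleCat.restrictScalars.{u} f) i) g).1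
      (inferInstanceAs (IsIso ((DerivedCategory.homologyFunctor (ModuleCat.{u} R) i).map
        ((DRing.restrictD f).map g))))
  exact isIso_of_reflects_iso _ (ModuleCat.restrictScalars.{u} f)

section Single

variable {R A : Type u} [CommRing R] [CommRing A] (f : R →+* A)
  [HasLTen R] [HasLTen A] [HasLBase f] [HasResTen f] [ResLegIso f]
  [HasLTen₃ R] [IsSymMonoidal R] [HasLTen₃ A] [IsSymMonoidal A]

/-- The universal map out of a tensor product with the algebra. -/
def nuMap (W : Dual.D R) :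
    (LTen₂ R).obj (W, (DRing.restrictD f).obj (unit A)) ⟶ (DRing.restrictD f).obj ((LBase f).obj W) :=
  tmap ((baseAdj f).unit.app W) (𝟙 _) ≫ actR f ((LBase f).obj W)

theorem isIso_nuMap (W : Dual.D R) : IsIso (nuMap f W) := by
  have h : nuMap f W = (DTen.symm R).app ((DRing.restrictD f).obj (unit A), W) ≫ (baseResIso f).hom.app W := by
    have e : (baseResIso f).hom.app W =
        tmap (𝟙 _) ((baseAdj f).unit.app W) ≫ act f ((LBase f).obj W) := by
      show projPF f (unit A) W ≫ _ = _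
      rw [projPF, Category.assoc]
      rfl
    rw [nuMap, actR, e, ← Category.assoc, ← Category.assoc]
    exact congrArg (· ≫ act f _) ((DTen.symm R).naturality (Prod.mkHom (𝟙 _) ((baseAdj f).unit.app W)))
  haveI := isIso_symm_app ((DRing.restrictD f).obj (unit A)) W
  rw [h]
  infer_instance

variable [HasRHom R] {Rf : Dual.D R ⥤ Dual.D A} (adj : DRing.restrictD f ⊣ Rf)

/-- The restricted trivial duality functor as an internal hom. -/
def theta (K : Dual.D R) :
    (DRing.restrictD f).obj (Rf.obj K) ⟶ (RHomR R ((DRing.restrictD f).obj (unit A))).obj K :=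
  rhomHomEquiv _ _ _ (actR f (Rf.obj K) ≫ adj.counit.app K)

theorem isIso_theta (K : Dual.D R) : IsIso (theta f adj K) := by
  refine isIso_of_bijective _ fun W => ?_
  haveI := isIso_nuMap f W
  let e : (W ⟶ (DRing.restrictD f).obj (Rf.obj K)) ≃ (W ⟶ (RHomR R ((DRing.restrictD f).obj (unit A))).obj K) :=
    ((baseAdj f).homEquiv W (Rf.obj K)).symm.trans ((adj.homEquiv _ K).symm.trans
      ((Iso.homCongr (asIso (nuMap f W)).symm (Iso.refl K)).trans (rhomHomEquiv W _ K)))
  have he : (fun g : W ⟶ (DRing.restrictD f).obj (Rf.obj K) => g ≫ theta f adj K) = ⇑e := by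
    funext g
    obtain ⟨g', rfl⟩ := ((baseAdj f).homEquiv W (Rf.obj K)).surjective g
    simp only [e, Equiv.trans_apply, Equiv.symm_apply_apply]
    rw [theta, homEquiv_comp]
    congr 1
    rw [adj.homEquiv_counit, (baseAdj f).homEquiv_unit]
    show tmap ((baseAdj f).unit.app W ≫ (DRing.restrictD f).map g') (𝟙 _) ≫ _ =
      nuMap f W ≫ ((DRing.restrictD f).map g' ≫ adj.counit.app K) ≫ 𝟙 K
    erw [Category.comp_id]
    rw [nuMap, ← Category.comp_id (𝟙 ((DRing.restrictD f).obj (unit A))), ← tmap_comp]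
    simp only [Category.assoc, Category.comp_id]
    rw [reassoc_of% (actR_natural f g')]
  rw [he]
  exact e.bijective

variable [DRing.HasLBaseChange f] (adjB : DRing.LBaseChange f ⊣ DRing.restrictD f)

/-- Extending and restricting is tensoring with the restricted unit. -/
def piIso (Z : Dual.D R) :
    (LTen₂ R).obj ((DRing.restrictD f).obj (unit A), Z) ≅
      (DRing.restrictD f).obj ((DRing.LBaseChange f).obj Z) :=
  (baseResIso f).app Z ≪≫ (DRing.restrictD f).mapIso ((adjB.leftAdjointUniq (baseAdj f)).app Z).symm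

theorem piIso_hom (Z : Dual.D R) :
    (piIso f adjB Z).hom = tmap (𝟙 _) (adjB.unit.app Z) ≫ act f ((DRing.LBaseChange f).obj Z) := by
  show (projPF f (unit A) Z ≫ (DRing.restrictD f).map ((unitL A).app _)) ≫
    (DRing.restrictD f).map ((adjB.leftAdjointUniq (baseAdj f)).inv.app Z) = _
  rw [projPF]
  simp only [Category.assoc]
  show tmap (𝟙 _) ((baseAdj f).unit.app Z) ≫ (resPF f).app (unit A, _) ≫ _ = _
  rw [← Category.assoc ((resPF f).app (unit A, (LBase f).obj Z))]
  show tmap (𝟙 _) ((baseAdj f).unit.app Z) ≫ act f ((LBase f).obj Z) ≫ _ = _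
  rw [← act_natural, ← Category.assoc, tmap_comp, Category.comp_id, Adjunction.leftAdjointUniq_inv_app,
    Adjunction.unit_leftAdjointUniq_hom_app]

theorem piIso_natural {Z Z₁ : Dual.D R} (z : Z ⟶ Z₁) :
    tmap (𝟙 _) z ≫ (piIso f adjB Z₁).hom =
      (piIso f adjB Z).hom ≫ (DRing.restrictD f).map ((DRing.LBaseChange f).map z) := by
  rw [piIso_hom, piIso_hom, Category.assoc, ← act_natural, ← Category.assoc, ← Category.assoc, tmap_comp, tmap_comp]
  exact congrArg (fun w => tmap _ w ≫ _) (adjB.unit_naturality z).symm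

end Single

section Square

variable {R A R' A' : Type u} [CommRing R] [CommRing A] [CommRing R'] [CommRing A']
  {φ : R →+* A} {ρ : R →+* R'} {α : A →+* A'} {φ' : R' →+* A'} (h : α.comp φ = φ'.comp ρ)
  [HasLTen R] [HasLTen A] [HasLTen R'] [HasLBase φ] [HasLBase ρ] [HasResTen φ] [ResLegIso φ] [HasResTen ρ]
  [ResLegIso ρ] [HasLTen₃ R] [IsSymMonoidal R] [HasLTen₃ A] [IsSymMonoidal A] [HasLTen₃ R'] [IsSymMonoidal R']
  [HasRHom R]
  [DRing.HasLBaseChange ρ] [DRing.HasLBaseChange α]
  (adjρ : DRing.LBaseChange ρ ⊣ DRing.restrictD ρ) (adjα : DRing.LBaseChange α ⊣ DRing.restrictD α)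
  {Rφ : Dual.D R ⥤ Dual.D A} (adj : DRing.restrictD φ ⊣ Rφ)
  {Rφ' : Dual.D R' ⥤ Dual.D A'} (adj' : DRing.restrictD φ' ⊣ Rφ')

/-- The twice restricted trivial duality functor as an internal hom. -/
def theta₂ (N : Dual.D R') :
    (DRing.restrictD ρ).obj ((DRing.restrictD φ').obj (Rφ'.obj N)) ⟶
      (RHomR R ((DRing.restrictD φ).obj (unit A))).obj ((DRing.restrictD ρ).obj N) :=
  rhomHomEquiv _ _ _ (tmap ((TrivBC.resComm h).inv.app (Rφ'.obj N)) (𝟙 _) ≫
    actR φ ((DRing.restrictD α).obj (Rφ'.obj N)) ≫ (TrivBC.resComm h).hom.app (Rφ'.obj N) ≫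
      (DRing.restrictD ρ).map (adj'.counit.app N))

include adjα in
theorem isIso_theta₂ (hcmp : ∀ X, IsIso (TrivBC.cmp adjρ adjα h X)) (N : Dual.D R') :
    IsIso (theta₂ h adj' N) := by
  refine isIso_of_bijective _ fun W => ?_
  haveI := isIso_nuMap φ W
  haveI := hcmp ((LBase φ).obj W)
  let rc := TrivBC.resComm h
  let Z := Rφ'.obj N
  let e : (W ⟶ (DRing.restrictD ρ).obj ((DRing.restrictD φ').obj Z)) ≃
      (W ⟶ (RHomR R ((DRing.restrictD φ).obj (unit A))).obj ((DRing.restrictD ρ).obj N)) :=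
    (Iso.homCongr (Iso.refl W) (rc.app Z).symm).trans
      (((baseAdj φ).homEquiv W ((DRing.restrictD α).obj Z)).symm.trans
        ((adjα.homEquiv _ Z).symm.trans ((adj'.homEquiv _ N).symm.trans
          ((Iso.homCongr (asIso (TrivBC.cmp adjρ adjα h ((LBase φ).obj W))).symm (Iso.refl N)).trans
            ((adjρ.homEquiv _ N).trans
              ((Iso.homCongr (asIso (nuMap φ W)).symm (Iso.refl _)).trans (rhomHomEquiv W _ _)))))))
  have he : (fun g : W ⟶ (DRing.restrictD ρ).obj ((DRing.restrictD φ').obj Z) => g ≫ theta₂ h adj' N) = ⇑e := by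
    funext g
    obtain ⟨g₁, rfl⟩ : ∃ g₁ : W ⟶ (DRing.restrictD φ).obj ((DRing.restrictD α).obj Z), g₁ ≫ rc.hom.app Z = g :=
      ⟨g ≫ rc.inv.app Z, (Category.assoc _ _ _).trans
        ((congrArg (g ≫ ·) (rc.inv_hom_id_app Z)).trans (Category.comp_id g))⟩
    obtain ⟨g₂, rfl⟩ := ((baseAdj φ).homEquiv W ((DRing.restrictD α).obj Z)).surjective g₁
    obtain ⟨g₃, rfl⟩ := (adjα.homEquiv _ Z).surjective g₂
    simp only [e, Equiv.trans_apply, Iso.homCongr_apply, Iso.refl_inv, Category.id_comp, Iso.refl_hom,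
      Category.comp_id, Iso.app_hom, Iso.app_inv, Iso.symm_hom, Iso.symm_inv, Category.assoc, Iso.hom_inv_id_app,
      asIso_hom, asIso_inv, Equiv.symm_apply_apply]
    have hh : ∀ g₁ : W ⟶ (DRing.restrictD φ).obj ((DRing.restrictD α).obj Z),
        (Iso.homCongr (Iso.refl W) (rc.app Z).symm) (g₁ ≫ rc.hom.app Z) = g₁ := fun g₁ => by
      show 𝟙 W ≫ (g₁ ≫ rc.hom.app Z) ≫ rc.inv.app Z = g₁
      rw [Category.id_comp, Category.assoc, rc.hom_inv_id_app]
      exact Category.comp_id _
    erw [hh]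
    erw [Equiv.symm_apply_apply, Equiv.symm_apply_apply]
    rw [theta₂, homEquiv_comp]
    rw [← Category.assoc (tmap _ (𝟙 _)), tmap_comp, Category.comp_id]
    erw [rc.hom_inv_id_app, tmap_id, Category.id_comp]
    erw [homEquiv_comp]
    congr 1
    rw [adjρ.homEquiv_unit, adj'.homEquiv_counit, (baseAdj φ).homEquiv_unit, Functor.map_comp, Functor.map_comp]
    rw [← Category.comp_id (𝟙 ((DRing.restrictD φ).obj (unit A))), ← tmap_comp]
    simp only [Category.assoc]
    erw [reassoc_of% (actR_natural φ (adjα.homEquiv _ Z g₃)), ← Category.assoc (tmap _ _)]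
    refine congrArg (nuMap φ W ≫ ·) ?_
    rw [adjα.homEquiv_unit, Functor.map_comp, Category.assoc]
    erw [reassoc_of% (unit_cmp h adjρ adjα ((LBase φ).obj W))]
    exact congrArg (_ ≫ ·) ((Category.assoc _ _ _).symm.trans
      ((congrArg (· ≫ _) (rc.hom.naturality g₃)).trans (Category.assoc _ _ _)))
  rw [he]
  exact e.bijective

theorem piIso_cmp (X : Dual.D A) :
    (piIso ρ adjρ ((DRing.restrictD φ).obj X)).hom ≫ (DRing.restrictD ρ).map (TrivBC.cmp adjρ adjα h X) ≫
        (TrivBC.resComm h).inv.app ((DRing.LBaseChange α).obj X) =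
      tmap (𝟙 _) ((DRing.restrictD φ).map (adjα.unit.app X)) ≫ wAct h ((DRing.LBaseChange α).obj X) := by
  rw [piIso_hom, wAct, Category.assoc, ← reassoc_of% (act_natural ρ (TrivBC.cmp adjρ adjα h X))]
  simp only [← Category.assoc, tmap_comp, Category.comp_id]
  erw [unit_cmp]

variable (K : Dual.D R) (hc : IsIso (TrivBC.cmp adjρ adjα h (Rφ.obj K)))

/-- The restricted base change map in terms of internal homs. -/
def phi : (DRing.restrictD ρ).obj ((DRing.LBaseChange ρ).obj ((DRing.restrictD φ).obj (Rφ.obj K))) ⟶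
    (RHomR R ((DRing.restrictD φ).obj (unit A))).obj ((DRing.restrictD ρ).obj ((DRing.LBaseChange ρ).obj K)) :=
  (DRing.restrictD ρ).map (TrivBC.cmp adjρ adjα h (Rφ.obj K)) ≫
    (DRing.restrictD ρ).map ((DRing.restrictD φ').map (TrivBC.bcMap adjρ adjα h adj adj' K hc)) ≫
      theta₂ h adj' ((DRing.LBaseChange ρ).obj K)

theorem bcMap_counit :
    (DRing.restrictD φ').map (TrivBC.bcMap adjρ adjα h adj adj' K hc) ≫
        adj'.counit.app ((DRing.LBaseChange ρ).obj K) =
      (haveI := hc; inv (TrivBC.cmp adjρ adjα h (Rφ.obj K))) ≫ (DRing.LBaseChange ρ).map (adj.counit.app K) := by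
  exact (adj'.homEquiv_counit _ _ _).symm.trans (Equiv.symm_apply_apply _ _)

theorem piIso_phi :
    (piIso ρ adjρ ((DRing.restrictD φ).obj (Rφ.obj K))).hom ≫ phi h adjρ adjα adj adj' K hc =
      tmap (𝟙 _) (theta φ adj K) ≫
        evalTen ((DRing.restrictD ρ).obj (unit R')) K ((DRing.restrictD φ).obj (unit A)) ≫
          (RHomR R ((DRing.restrictD φ).obj (unit A))).map (piIso ρ adjρ K).hom := by
  haveI := hc
  let X := Rφ.obj K
  let Y := (DRing.LBaseChange α).obj X
  let M := (DRing.restrictD φ).obj (unit A)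
  let P := (DRing.restrictD ρ).obj (unit R')
  let bc := TrivBC.bcMap adjρ adjα h adj adj' K hc
  let c := TrivBC.cmp adjρ adjα h X
  let rc := TrivBC.resComm h
  rw [phi, theta₂, ← Category.assoc ((DRing.restrictD ρ).map _), ← Category.assoc, homEquiv_comp, evalTen,
    ← homEquiv_comp_map, homEquiv_comp]
  congr 1
  rw [← Category.assoc (tmap _ (𝟙 M)), tmap_comp, Category.comp_id]
  have n1 : (DRing.restrictD ρ).map ((DRing.restrictD φ').map bc) ≫
      rc.inv.app (Rφ'.obj ((DRing.LBaseChange ρ).obj K)) =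
      rc.inv.app Y ≫ (DRing.restrictD φ).map ((DRing.restrictD α).map bc) := rc.inv.naturality bc
  have n2 : (DRing.restrictD φ).map ((DRing.restrictD α).map bc) ≫
      rc.hom.app (Rφ'.obj ((DRing.LBaseChange ρ).obj K)) =
      rc.hom.app Y ≫ (DRing.restrictD ρ).map ((DRing.restrictD φ').map bc) := rc.hom.naturality bc
  have n3 : tmap ((piIso ρ adjρ ((DRing.restrictD φ).obj X)).hom ≫ (DRing.restrictD ρ).map c ≫ rc.inv.app Y) (𝟙 M) ≫
      actR φ ((DRing.restrictD α).obj Y) =
      (DTen.associator P ((DRing.restrictD φ).obj X) M).hom ≫ tmap (𝟙 P) (actR φ X) ≫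
        (piIso ρ adjρ ((DRing.restrictD φ).obj X)).hom ≫ (DRing.restrictD ρ).map c ≫ rc.inv.app Y := by
    rw [piIso_cmp h adjρ adjα X, ← Category.comp_id (𝟙 M), ← tmap_comp, Category.assoc, wAct_comm,
      reassoc_of% (associator_naturality (𝟙 P) ((DRing.restrictD φ).map (adjα.unit.app X)) (𝟙 M)),
      ← Category.assoc (tmap (𝟙 P) _) (tmap (𝟙 _) _), tmap_comp, Category.id_comp,
      actR_natural, ← Category.comp_id (𝟙 P), ← tmap_comp, Category.assoc]
    simp only [Category.comp_id]
  have n4 : tmap (theta φ adj K) (𝟙 M) ≫ ev M K = actR φ X ≫ adj.counit.app K :=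
    ((rhomAdj R M).homEquiv_counit _ _ _).symm.trans (Equiv.symm_apply_apply _ _)
  simp only [Category.assoc]
  rw [show evalTenAux P K M = (DTen.associator P ((RHomR R M).obj K) M).hom ≫ tmap (𝟙 P) (ev M K) from rfl]
  simp only [Category.assoc]
  rw [reassoc_of% (associator_naturality (𝟙 P) (theta φ adj K) (𝟙 M)), ← Category.assoc (tmap (𝟙 P) _) (tmap (𝟙 P) _),
    tmap_comp, Category.id_comp, n4]
  rw [n1, ← Category.comp_id (𝟙 M)]
  rw [show (piIso ρ adjρ ((DRing.restrictD φ).obj X)).hom ≫ (DRing.restrictD ρ).map c ≫ rc.inv.app Y ≫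
      (DRing.restrictD φ).map ((DRing.restrictD α).map bc) =
      ((piIso ρ adjρ ((DRing.restrictD φ).obj X)).hom ≫ (DRing.restrictD ρ).map c ≫ rc.inv.app Y) ≫
      (DRing.restrictD φ).map ((DRing.restrictD α).map bc) by simp only [Category.assoc], ← tmap_comp, Category.assoc,
    reassoc_of% (actR_natural φ ((DRing.restrictD α).map bc)), reassoc_of% n3, reassoc_of% n2, ← Functor.map_comp,
    bcMap_counit h adjρ adjα adj adj' K hc, Functor.map_comp]
  erw [rc.inv_hom_id_app_assoc]
  rw [← Functor.map_comp_assoc, IsIso.hom_inv_id, CategoryTheory.Functor.map_id, Category.id_comp,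
    ← piIso_natural, ← Category.assoc (tmap (𝟙 P) _), tmap_comp, Category.id_comp]
  rfl

include adjα in
theorem isIso_bcMap_iff (hcmp : ∀ X, IsIso (TrivBC.cmp adjρ adjα h X)) :
    IsIso (TrivBC.bcMap adjρ adjα h adj adj' K hc) ↔
      IsIso (evalTen ((DRing.restrictD ρ).obj (unit R')) K ((DRing.restrictD φ).obj (unit A))) := by
  haveI := hc
  haveI := isIso_theta φ adj K
  haveI := isIso_theta₂ h adjρ adjα adj' hcmp ((DRing.LBaseChange ρ).obj K)
  haveI : IsIso (tmap (𝟙 ((DRing.restrictD ρ).obj (unit R'))) (theta φ adj K)) :=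
    ((LTen₂ R).mapIso (Iso.prod (Iso.refl _) (asIso (theta φ adj K)))).isIso_hom
  have key := piIso_phi h adjρ adjα adj adj' K hc
  constructor
  · intro hb
    haveI := hb
    haveI : IsIso (phi h adjρ adjα adj adj' K hc) := by rw [phi]; infer_instance
    haveI : IsIso (tmap (𝟙 _) (theta φ adj K) ≫
        evalTen ((DRing.restrictD ρ).obj (unit R')) K ((DRing.restrictD φ).obj (unit A)) ≫
          (RHomR R ((DRing.restrictD φ).obj (unit A))).map (piIso ρ adjρ K).hom) := by rw [← key]; infer_instance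
    haveI := IsIso.of_isIso_comp_left (tmap (𝟙 _) (theta φ adj K))
      (evalTen ((DRing.restrictD ρ).obj (unit R')) K ((DRing.restrictD φ).obj (unit A)) ≫
          (RHomR R ((DRing.restrictD φ).obj (unit A))).map (piIso ρ adjρ K).hom)
    exact IsIso.of_isIso_comp_right _ ((RHomR R ((DRing.restrictD φ).obj (unit A))).map (piIso ρ adjρ K).hom)
  · intro he
    haveI := he
    haveI : IsIso ((piIso ρ adjρ ((DRing.restrictD φ).obj (Rφ.obj K))).hom ≫ phi h adjρ adjα adj adj' K hc) := by
      rw [key]; infer_instance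
    haveI : IsIso (phi h adjρ adjα adj adj' K hc) :=
      IsIso.of_isIso_comp_left (piIso ρ adjρ ((DRing.restrictD φ).obj (Rφ.obj K))).hom _
    let b := (DRing.restrictD ρ).map ((DRing.restrictD φ').map (TrivBC.bcMap adjρ adjα h adj adj' K hc))
    haveI : IsIso ((DRing.restrictD ρ).map (TrivBC.cmp adjρ adjα h (Rφ.obj K)) ≫
        b ≫ theta₂ h adj' ((DRing.LBaseChange ρ).obj K)) := ‹IsIso (phi h adjρ adjα adj adj' K hc)›
    haveI := IsIso.of_isIso_comp_left ((DRing.restrictD ρ).map (TrivBC.cmp adjρ adjα h (Rφ.obj K)))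
      (b ≫ theta₂ h adj' ((DRing.LBaseChange ρ).obj K))
    haveI : IsIso b := IsIso.of_isIso_comp_right b (theta₂ h adj' ((DRing.LBaseChange ρ).obj K))
    haveI := isIso_of_restrictD ρ ((DRing.restrictD φ').map (TrivBC.bcMap adjρ adjα h adj adj' K hc))
    exact isIso_of_restrictD φ' _

end Square

end Groth.Agent.TrivBCLib
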